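import Mathlib
import Cfsg.Agent.Lib.Core.Fitting
import Cfsg.Agent.Lib.Core.CoprimeExt
import Cfsg.Agent.Lib.Core.CoprimeNorm

/-! Basic lemmas for the three primes theorem. -/

set_option autoImplicit false
open Cfsg Subgroup

namespace H64.Palfy

section
variable {G : Type*} [Group G] [Finite G]

theorem mem_of_pow_mem {q k : ℕ} (hq : q.Prime) {S : Subgroup G} {y : G}
    (hy : y ∈ normalizer (S : Set G)) (hk : y ^ q ^ k ∈ S) (hS : ¬ q ∣ S.index) : y ∈ S := by
  let N : Subgroup G := normalizer (S : Set G)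
  haveI : (S.subgroupOf N).Normal := Subgroup.normal_in_normalizer
  let z : N ⧸ S.subgroupOf N := ((⟨y, hy⟩ : N) : N ⧸ S.subgroupOf N)
  have h1 : orderOf z ∣ q ^ k := by
    rw [orderOf_dvd_iff_pow_eq_one]
    show (QuotientGroup.mk' _ (⟨y, hy⟩ : N)) ^ q ^ k = 1
    rw [← map_pow]
    exact (QuotientGroup.eq_one_iff _).mpr hk
  have h2 : orderOf z ∣ S.index :=
    (orderOf_dvd_natCard z).trans (Subgroup.relIndex_dvd_index_of_le le_normalizer)
  have h3 : orderOf z = 1 := by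
    have : Nat.Coprime (q ^ k) S.index :=
      Nat.Coprime.pow_left k ((Nat.Prime.coprime_iff_not_dvd hq).mpr hS)
    exact Nat.eq_one_of_dvd_coprimes this h1 h2
  have h4 : z = 1 := orderOf_eq_one_iff.mp h3
  exact (QuotientGroup.eq_one_iff (N := S.subgroupOf N) (⟨y, hy⟩ : N)).mp h4

theorem exists_sylow_le {q : ℕ} [hq : Fact q.Prime] {I : Subgroup G} (hI : ¬ q ∣ I.index) :
    ∃ Q : Sylow q G, (Q : Subgroup G) ≤ I := by
  obtain ⟨Q⟩ : Nonempty (Sylow q I) := inferInstance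
  have h1 : IsPGroup q ((Q : Subgroup I).map I.subtype) := Q.2.map _
  have h2 : ¬ q ∣ ((Q : Subgroup I).map I.subtype).index := by
    rw [Subgroup.index_map_subtype]
    exact hq.1.not_dvd_mul Q.not_dvd_index hI
  exact ⟨h1.toSylow h2, Subgroup.map_subtype_le _⟩

theorem not_dvd_index_of_le {q : ℕ} [Fact q.Prime] {I : Subgroup G} (Q : Sylow q G)
    (h : (Q : Subgroup G) ≤ I) : ¬ q ∣ I.index :=
  fun hd => Q.not_dvd_index (hd.trans (Subgroup.index_dvd_of_le h))

theorem sylow_eq_of_le {q : ℕ} [Fact q.Prime] {Q R : Sylow q G}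
    (h : (R : Subgroup G) ≤ normalizer ((Q : Subgroup G) : Set G)) : R = Q := by
  have h1 := R.2.inf_normalizer_sylow Q
  have h2 : (R : Subgroup G) ≤ Q := by
    rw [← inf_eq_left, ← h1, inf_eq_left]; exact h
  exact Sylow.ext (R.3 Q.2 h2).symm

theorem sylow_le_of_normal {q : ℕ} [hq : Fact q.Prime] {C : Subgroup G} [C.Normal]
    (hC : ¬ q ∣ C.index) (Q : Sylow q G) : (Q : Subgroup G) ≤ C := by
  intro x hx
  obtain ⟨k, hk⟩ := Q.2 ⟨x, hx⟩
  have hk' : x ^ q ^ k = 1 := congrArg Subtype.val hk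
  exact mem_of_pow_mem (k := k) hq.1 (by rw [normalizer_eq_top]; trivial) (hk' ▸ one_mem _) hC

/-- A normal subgroup that is a `q`-group modulo `N` lies in every overgroup of `N` of index
prime to `q`. -/
theorem le_of_normal {q : ℕ} [hq : Fact q.Prime] {N S I : Subgroup G} [N.Normal] [S.Normal]
    (hNI : N ≤ I) (hS : ∀ x ∈ S, ∃ k, x ^ q ^ k ∈ N) (hI : ¬ q ∣ I.index) : S ≤ I := by
  obtain ⟨Q, hQ⟩ := exists_sylow_le hI
  have hf := QuotientGroup.mk'_surjective N
  have h1 : IsPGroup q (S.map (QuotientGroup.mk' N)) := by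
    rintro ⟨_, x, hx, rfl⟩
    obtain ⟨k, hk⟩ := hS x hx
    refine ⟨k, Subtype.ext ?_⟩
    show (QuotientGroup.mk' N x) ^ q ^ k = 1
    rw [← map_pow]; exact (QuotientGroup.eq_one_iff _).mpr hk
  haveI : (S.map (QuotientGroup.mk' N)).Normal := Subgroup.Normal.map inferInstance _ hf
  have h2 := h1.le_sylow_of_normal (Q.mapSurjective hf)
  intro x hx
  obtain ⟨y, hy, e⟩ := h2 (mem_map_of_mem _ hx)
  have h3 : y⁻¹ * x ∈ N := QuotientGroup.eq.mp e
  have := I.mul_mem (hQ hy) (hNI h3)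
  simpa using this

theorem exists_pCore_not_cent [Group.IsSolvable G] {q : ℕ} [Fact q.Prime] {Q : Subgroup G}
    (hQ : IsPGroup q Q) (h : ¬ Q ≤ pCore q G) :
    ∃ u : ℕ, u.Prime ∧ ¬ Q ≤ centralizer (pCore u G : Set G) := by
  by_contra hc
  push Not at hc
  apply h
  apply H1.le_pCore_of_le_fitting hQ
  refine le_trans ?_ H1.centralizer_fitting_le
  rw [Subgroup.le_centralizer_iff, H1.fitting_eq_iSup_pCore]
  exact iSup_le fun u => Subgroup.le_centralizer_iff.mp (hc u u.2)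

end

section
variable {H W : Type*} [Group H] [Group W]

/-- Stabiliser of a point. -/
def st (φ : H →* MulAut W) (w : W) : Subgroup H where
  carrier := {h | φ h w = w}
  one_mem' := by simp
  mul_mem' := by
    intro a b ha hb
    simp only [Set.mem_setOf_eq, map_mul, MulAut.mul_apply] at *
    rw [hb, ha]
  inv_mem' := by
    intro a ha
    simp only [Set.mem_setOf_eq, map_inv] at *
    rw [MulAut.inv_apply, MulEquiv.symm_apply_eq, ha]

theorem mem_st {φ : H →* MulAut W} {w : W} {h : H} : h ∈ st φ w ↔ φ h w = w := Iff.rfl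

theorem le_st {φ : H →* MulAut W} {w : W} {B : Subgroup H} : B ≤ st φ w ↔ w ∈ H2.fixSub φ B :=
  Iff.rfl

theorem app_inv (φ : H →* MulAut W) (g : H) (w : W) : φ g (φ g⁻¹ w) = w := by
  rw [← MulAut.mul_apply, ← map_mul]; simp

theorem inv_app (φ : H →* MulAut W) (g : H) (w : W) : φ g⁻¹ (φ g w) = w := by
  rw [← MulAut.mul_apply, ← map_mul]; simp

theorem app_mul (φ : H →* MulAut W) (g h : H) (w : W) : φ (g * h) w = φ g (φ h w) := by
  rw [map_mul, MulAut.mul_apply]

theorem conj_mem_st {φ : H →* MulAut W} {w : W} {h : H} (g : H) (hh : h ∈ st φ w) :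
    g * h * g⁻¹ ∈ st φ (φ g w) := by
  rw [mem_st] at *
  rw [app_mul, app_mul, inv_app, hh]

/-- Each non-identity point of `U` is fixed by a Sylow subgroup normal in its stabiliser. -/
def NQ (φ : H →* MulAut W) (q : ℕ) (U : Subgroup W) : Prop :=
  ∀ w ∈ U, w ≠ 1 → ∃ Q : Sylow q H, (Q : Subgroup H) ≤ st φ w ∧
    st φ w ≤ normalizer ((Q : Subgroup H) : Set H)

/-- Irreducible action. -/
def Irr (φ : H →* MulAut W) : Prop :=
  ∀ U : Subgroup W, (∀ h, ∀ x ∈ U, φ h x ∈ U) → U = ⊥ ∨ U = ⊤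

theorem fix_inv (φ : H →* MulAut W) (N : Subgroup H) [hN : N.Normal] (h : H) :
    ∀ x ∈ H2.fixSub φ N, φ h x ∈ H2.fixSub φ N := by
  intro x hx b hb
  have := conj_mem_st (φ := φ) (w := x) h (hx _ (hN.conj_mem b hb h⁻¹))
  simpa [mul_assoc, mem_st] using this

theorem eq_bot_of_fix {φ : H →* MulAut W} (hi : Function.Injective φ) (hI : Irr φ)
    (N : Subgroup H) [N.Normal] {w : W} (hw : w ≠ 1) (h : N ≤ st φ w) : N = ⊥ := by
  rcases hI _ (fix_inv φ N) with h1 | h1
  · exact absurd (Subgroup.mem_bot.mp (h1 ▸ le_st.mp h)) hw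
  · rw [eq_bot_iff]
    intro n hn
    have : φ n = φ 1 := by
      ext x
      rw [map_one]
      exact (h1 ▸ Subgroup.mem_top x : x ∈ H2.fixSub φ N) n hn
    exact hi this

theorem card_fix_modEq [Finite W] (φ : H →* MulAut W) {p : ℕ} [Fact p.Prime] {B : Subgroup H}
    (hB : IsPGroup p B) : Nat.card W ≡ Nat.card (H2.fixSub φ B) [MOD p] := by
  letI : MulAction B W := MulAction.compHom W (φ.comp B.subtype)
  have h := hB.card_modEq_card_fixedPoints W
  have e : Nat.card (MulAction.fixedPoints B W) = Nat.card (H2.fixSub φ B) :=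
    Nat.card_congr (Equiv.subtypeEquivRight fun w =>
      ⟨fun h b hb => h ⟨b, hb⟩, fun h b => h b b.2⟩)
  rwa [e] at h

theorem isPGroup_of_irr [Finite W] {φ : H →* MulAut W} (hI : Irr φ)
    (hc : ∀ a b : W, a * b = b * a) {p : ℕ} [hp : Fact p.Prime] (hd : p ∣ Nat.card W) :
    IsPGroup p W := by
  let U : Subgroup W :=
    { carrier := {w | w ^ p = 1}
      one_mem' := by simp
      mul_mem' := fun {a b} ha hb => by
        simp only [Set.mem_setOf_eq] at *
        rw [Commute.mul_pow (hc a b), ha, hb, one_mul]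
      inv_mem' := fun {a} ha => by simpa using ha }
  rcases hI U (fun h x hx => by
    show φ h x ^ p = 1
    rw [← map_pow, show x ^ p = 1 from hx, map_one]) with h | h
  · obtain ⟨x, hx⟩ := exists_prime_orderOf_dvd_card' p hd
    have : x ∈ U := by show x ^ p = 1; rw [← hx, pow_orderOf_eq_one]
    rw [h, Subgroup.mem_bot] at this
    rw [this, orderOf_one] at hx
    exact absurd hx.symm hp.1.one_lt.ne'
  · intro w
    exact ⟨1, by rw [pow_one]; exact (h ▸ Subgroup.mem_top w : w ∈ U)⟩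

/-- A non-trivial normal `t`-subgroup has order prime to `|W|`. -/
theorem not_dvd_of_normal [Finite W] {φ : H →* MulAut W} (hi : Function.Injective φ)
    (hI : Irr φ) (hc : ∀ a b : W, a * b = b * a) {t : ℕ} [ht : Fact t.Prime] (D : Subgroup H)
    [D.Normal] (hD : IsPGroup t D) (h0 : D ≠ ⊥) : ¬ t ∣ Nat.card W := by
  intro hd
  have h1 : t ∣ Nat.card (H2.fixSub φ D) :=
    (Nat.modEq_zero_iff_dvd).mp
      ((card_fix_modEq φ hD).symm.trans ((Nat.modEq_zero_iff_dvd).mpr hd))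
  have h2 : H2.fixSub φ D ≠ ⊥ := by
    intro h; rw [h, Subgroup.card_bot] at h1; exact ht.1.not_dvd_one h1
  obtain ⟨⟨w, hw⟩, hw1⟩ := Subgroup.ne_bot_iff_exists_ne_one.mp h2
  exact h0 (eq_bot_of_fix hi hI D (w := w) (fun h => hw1 (Subtype.ext h)) hw)

theorem card_fix_conj (φ : H →* MulAut W) {q : ℕ} (U : Subgroup W)
    (hU : ∀ h, ∀ x ∈ U, φ h x ∈ U) (R : Sylow q H) (g : H) :
    Nat.card (U ⊓ H2.fixSub φ (g • R : Sylow q H) : Subgroup W) =
      Nat.card (U ⊓ H2.fixSub φ R : Subgroup W) := by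
  symm
  refine Nat.card_congr
    { toFun := fun x => ⟨φ g x, hU _ _ x.2.1, ?_⟩
      invFun := fun x => ⟨φ g⁻¹ x, hU _ _ x.2.1, ?_⟩
      left_inv := fun x => Subtype.ext (inv_app φ g x)
      right_inv := fun x => Subtype.ext (app_inv φ g x) }
  · rintro _ ⟨b, hb, rfl⟩
    exact conj_mem_st g (x.2.2 b hb)
  · intro b hb
    have := conj_mem_st (φ := φ) g⁻¹ (x.2.2 (g * b * g⁻¹) ⟨b, hb, rfl⟩)
    simpa [mul_assoc, mem_st] using this

theorem count [Finite H] [Finite W] {φ : H →* MulAut W} {q : ℕ} [Fact q.Prime] {U : Subgroup W}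
    (hU : ∀ h, ∀ x ∈ U, φ h x ∈ U) (h : NQ φ q U) (R : Sylow q H) :
    Nat.card U - 1 = Nat.card (Sylow q H) * (Nat.card (U ⊓ H2.fixSub φ R : Subgroup W) - 1) := by
  classical
  haveI := Fintype.ofFinite W
  haveI := Fintype.ofFinite (Sylow q H)
  have hc : ∀ V : Subgroup W, Nat.card V - 1 = (Finset.univ.filter fun w => w ∈ V ∧ w ≠ 1).card := by
    intro V
    have : (Finset.univ.filter fun w => w ∈ V ∧ w ≠ 1) =
        (Finset.univ.filter fun w => w ∈ V).erase 1 := by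
      ext w; simp [and_comm]
    rw [this, Finset.card_erase_of_mem (by simp), Nat.card_eq_fintype_card,
      Fintype.card_subtype]
  choose! f hf using h
  rw [hc, Finset.card_eq_sum_card_fiberwise (f := f) (t := Finset.univ) (fun _ _ => by simp),
    Nat.card_eq_fintype_card, ← Finset.card_univ, ← smul_eq_mul, ← Finset.sum_const]
  refine Finset.sum_congr rfl fun Q _ => ?_
  obtain ⟨g, rfl⟩ := MulAction.exists_smul_eq H R Q
  rw [← card_fix_conj φ U hU R g, hc]
  congr 1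
  ext w
  simp only [Finset.mem_filter, Finset.mem_univ, true_and, Subgroup.mem_inf]
  constructor
  · rintro ⟨⟨h1, h2⟩, h3⟩
    exact ⟨⟨h1, h3 ▸ le_st.mp (hf w h1 h2).1⟩, h2⟩
  · rintro ⟨⟨h1, h3⟩, h2⟩
    exact ⟨⟨h1, h2⟩, (sylow_eq_of_le ((le_st.mpr h3).trans (hf w h1 h2).2)).symm⟩

end

theorem num_aux {p n a b c d : ℕ} (hp : p.Prime) (h1 : p ^ a - 1 = n * (p ^ c - 1))
    (h2 : p ^ b - 1 = n * (p ^ d - 1)) (hca : c < a) (hdb : d < b) (hcd : c < d) : False := by
  have z1 : ((p : ℤ) ^ a - 1) = n * ((p : ℤ) ^ c - 1) := by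
    have := Nat.one_le_pow a p hp.pos
    have := Nat.one_le_pow c p hp.pos
    zify [*] at h1; exact h1
  have z2 : ((p : ℤ) ^ b - 1) = n * ((p : ℤ) ^ d - 1) := by
    have := Nat.one_le_pow b p hp.pos
    have := Nat.one_le_pow d p hp.pos
    zify [*] at h2; exact h2
  have ha : (p : ℤ) ^ (c + 1) ∣ (p : ℤ) ^ a := pow_dvd_pow _ hca
  have hb : (p : ℤ) ^ (c + 1) ∣ (p : ℤ) ^ b := pow_dvd_pow _ (by omega)
  have hd : (p : ℤ) ^ (c + 1) ∣ (p : ℤ) ^ d := pow_dvd_pow _ hcd
  have h3 : (p : ℤ) ^ (c + 1) ∣ n - 1 := by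
    have : (n : ℤ) - 1 = n * p ^ d - p ^ b := by linarith
    rw [this]; exact (hd.mul_left _).sub hb
  have h4 : (p : ℤ) ^ (c + 1) ∣ (p : ℤ) ^ c := by
    have : (p : ℤ) ^ c = p ^ a - (n - 1) * (p ^ c - 1) := by linarith
    have h5 := ha.sub (h3.mul_right ((p : ℤ) ^ c - 1))
    rwa [← this] at h5
  have h6 : p ^ (c + 1) ∣ p ^ c := by exact_mod_cast h4
  have := (Nat.pow_dvd_pow_iff_le_right hp.one_lt).mp h6
  omega

theorem num {p n a b c d : ℕ} (hp : p.Prime) (h1 : p ^ a - 1 = n * (p ^ c - 1))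
    (h2 : p ^ b - 1 = n * (p ^ d - 1)) (hca : c < a) (hdb : d < b) : p ^ a = p ^ b := by
  rcases lt_trichotomy c d with h | h | h
  · exact (num_aux hp h1 h2 hca hdb h).elim
  · subst h
    have := Nat.one_le_pow a p hp.pos
    have := Nat.one_le_pow b p hp.pos
    omega
  · exact (num_aux hp h2 h1 hdb hca h).elim

end H64.Palfy
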