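import Mathlib
import Cfsg.Agent.Lib.Palfy.B
import Cfsg.Agent.Lib.Core.CoprimeAbelian
import Cfsg.Agent.Lib.Core.Frobenius

/-! Solvable groups acting on a symplectic 2-group with a small Sylow 3-subgroup. -/

set_option autoImplicit false
open Cfsg Subgroup

namespace H64.Palfy

variable {G V : Type*} [Group G] [Group V] [Finite V]

theorem idx_fix {φ : G →* MulAut V} (hi : Function.Injective φ) (h2 : IsPGroup 2 V) {p : ℕ}
    [hp : Fact p.Prime] (hp2 : p ≠ 2) {B : Subgroup G} (hB : IsPGroup p B) (h0 : B ≠ ⊥) :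
    ∃ j, 1 ≤ j ∧ (H2.fixSub φ B).index = 2 ^ j ∧ p ∣ 2 ^ j - 1 := by
  obtain ⟨j, hj⟩ := h2.index (H2.fixSub φ B)
  obtain ⟨i, hi'⟩ := (h2.to_subgroup (H2.fixSub φ B)).exists_card_eq
  refine ⟨j, ?_, hj, ?_⟩
  · by_contra h
    have : j = 0 := by omega
    rw [this, pow_zero, Subgroup.index_eq_one] at hj
    apply h0
    rw [eq_bot_iff]
    intro b hb
    have : φ b = φ 1 := by
      ext x; rw [map_one]; exact (hj ▸ Subgroup.mem_top x : x ∈ H2.fixSub φ B) b hb
    exact hi this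
  · have h := card_fix_modEq φ hB
    rw [← (H2.fixSub φ B).card_mul_index, hj, hi'] at h
    have hc : Nat.Coprime p (2 ^ i) :=
      Nat.Coprime.pow_right i ((Nat.coprime_primes hp.1 Nat.prime_two).mpr hp2)
    have h' : 2 ^ i * 1 ≡ 2 ^ i * 2 ^ j [MOD p] := by simpa using h.symm
    exact (Nat.modEq_iff_dvd' (Nat.one_le_pow _ _ two_pos)).mp (h'.cancel_left_of_coprime hc)

omit [Finite V] in
theorem fix_anti (φ : G →* MulAut V) {A B : Subgroup G} (h : A ≤ B) :
    H2.fixSub φ B ≤ H2.fixSub φ A := fun _ hx a ha => hx a (h ha)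

theorem eq_of_le_of_index_le {A B : Subgroup V} (h : A ≤ B) (hi : A.index ≤ B.index) : A = B := by
  have h1 := Subgroup.relIndex_mul_index h
  have h2 : 0 < B.index := Nat.pos_of_ne_zero Subgroup.index_ne_zero_of_finite
  have h3 : 0 < A.index := Nat.pos_of_ne_zero Subgroup.index_ne_zero_of_finite
  have h4 : A.relIndex B = 1 := by
    rcases Nat.lt_trichotomy (A.relIndex B) 1 with h5 | h5 | h5
    · have : A.relIndex B = 0 := by omega
      rw [this] at h1; omega
    · exact h5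
    · nlinarith
  exact le_antisymm h (Subgroup.relIndex_eq_one.mp h4)

theorem mem_fix_zpowers {φ : G →* MulAut V} {s : G} {v : V} :
    v ∈ H2.fixSub φ (zpowers s) ↔ φ s v = v := by
  rw [← le_st, zpowers_le, mem_st]

/-- No non-degenerate alternating form on a group of order eight. -/
theorem parity (b : V → V →* ℤˣ) (hs : ∀ v w, b v w = b w v) (h0 : ∀ v, b v v = 1)
    (U : Subgroup V) (hU : Nat.card U = 8) (hn : ∀ u ∈ U, (∀ v ∈ U, b u v = 1) → u = 1) :
    False := by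
  have hne : U ≠ ⊥ := by intro h; rw [h, Subgroup.card_bot] at hU; omega
  obtain ⟨⟨u1, h1⟩, h1'⟩ := Subgroup.ne_bot_iff_exists_ne_one.mp hne
  have h1'' : u1 ≠ 1 := fun h => h1' (Subtype.ext h)
  obtain ⟨u2, h2, h12⟩ : ∃ u2 ∈ U, b u1 u2 ≠ 1 := by
    by_contra h; push Not at h; exact h1'' (hn u1 h1 h)
  have e12 : b u1 u2 = -1 := (Int.units_eq_one_or _).resolve_left h12
  have e21 : b u2 u1 = -1 := by rw [hs, e12]
  let ψ : U →* ℤˣ × ℤˣ := ((b u1).prod (b u2)).comp U.subtype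
  have hψ : ∀ e : ℤˣ × ℤˣ, ∃ a : U, ψ a = e ∧ ∀ u, b u u1 = 1 → b u u2 = 1 → b u a = 1 := by
    rintro ⟨e1, e2⟩
    rcases Int.units_eq_one_or e1 with rfl | rfl <;> rcases Int.units_eq_one_or e2 with rfl | rfl
    · exact ⟨1, map_one _, fun u _ _ => by simp⟩
    · exact ⟨⟨u1, h1⟩, by simp [ψ, h0, e21], fun u h _ => h⟩
    · exact ⟨⟨u2, h2⟩, by simp [ψ, h0, e12], fun u _ h => h⟩
    · exact ⟨⟨u1 * u2, mul_mem h1 h2⟩, by simp [ψ, h0, e12, e21], fun u h h' => by simp [h, h']⟩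
  have hk : Nat.card ψ.ker = 2 := by
    have h := ψ.ker.card_mul_index
    rw [Subgroup.index_ker, MonoidHom.range_eq_top.mpr fun e => ⟨_, (hψ e).choose_spec.1⟩,
      Subgroup.card_top, Nat.card_prod, Nat.card_eq_fintype_card (α := ℤˣ), Fintype.card_units_int,
      hU] at h
    omega
  obtain ⟨⟨u3, h3⟩, h3', huniq⟩ := (Nat.card_eq_two_iff' (1 : ψ.ker)).mp hk
  have a1 : b u3 u1 = 1 := by rw [hs]; exact congrArg Prod.fst h3
  have a2 : b u3 u2 = 1 := by rw [hs]; exact congrArg Prod.snd h3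
  apply h3'
  ext
  apply hn _ u3.2
  intro v hv
  obtain ⟨a, ha, ha'⟩ := hψ (ψ ⟨v, hv⟩)⁻¹
  have hm : (⟨v, hv⟩ * a : U) ∈ ψ.ker := by rw [MonoidHom.mem_ker, map_mul, ha, mul_inv_cancel]
  have h4 : b u3 (v * a) = 1 := by
    by_cases h : (⟨_, hm⟩ : ψ.ker) = 1
    · have : v * a = 1 := congrArg (fun x : ψ.ker => ((x : U) : V)) h
      rw [this, map_one]
    · have : v * a = u3 := congrArg (fun x : ψ.ker => ((x : U) : V)) (huniq _ h)
      rw [this, h0]
  rwa [map_mul, ha' _ a1 a2, mul_one] at h4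

theorem not_seven {φ : G →* MulAut V} (hc : ∀ a b : V, a * b = b * a) (h2 : IsPGroup 2 V)
    (b : V → V →* ℤˣ) (hs : ∀ v w, b v w = b w v) (h0 : ∀ v, b v v = 1)
    (hn : ∀ u, (∀ v, b u v = 1) → u = 1) (hinv : ∀ g v w, b (φ g v) (φ g w) = b v w)
    {s : G} (h7 : s ^ 7 = 1) (h8 : (H2.fixSub φ (zpowers s)).index = 8) : False := by
  letI : CommGroup V := { (inferInstance : Group V) with mul_comm := hc }
  let δ : V →* V := MonoidHom.mk' (fun v => v⁻¹ * φ s v) (fun a b => by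
    rw [map_mul, mul_inv_rev, mul_comm b⁻¹, mul_mul_mul_comm])
  have hk : δ.ker = H2.fixSub φ (zpowers s) := by
    ext v
    rw [MonoidHom.mem_ker, mem_fix_zpowers]
    show v⁻¹ * φ s v = 1 ↔ _
    rw [inv_mul_eq_one, eq_comm]
  have hU : Nat.card δ.range = 8 := by rw [← Subgroup.index_ker, hk, h8]
  have hd : δ.range ⊓ δ.ker = ⊥ := by
    rw [eq_bot_iff]
    rintro _ ⟨⟨v, rfl⟩, hv⟩
    have hv' : φ s (δ v) = δ v := mem_fix_zpowers.mp (hk ▸ hv)
    have e : ∀ k : ℕ, φ (s ^ k) v = v * δ v ^ k := by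
      intro k
      induction k with
      | zero => simp
      | succ k ih =>
        rw [pow_succ', app_mul, ih, map_mul, map_pow, hv', pow_succ', ← mul_assoc]
        congr 1
        show _ = v * (v⁻¹ * φ s v)
        group
    have e7 := e 7
    rw [h7, map_one, MulAut.one_apply, left_eq_mul] at e7
    obtain ⟨k, hk2⟩ := h2 (δ v)
    have : orderOf (δ v) = 1 := Nat.eq_one_of_dvd_coprimes
      (Nat.Coprime.pow_left k (by norm_num : Nat.Coprime 2 7)) (orderOf_dvd_of_pow_eq_one hk2)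
      (orderOf_dvd_of_pow_eq_one e7)
    exact orderOf_eq_one_iff.mp this
  have ht : δ.ker ⊔ δ.range = ⊤ := by
    apply Subgroup.eq_top_of_card_eq
    rw [H2.card_sup_of_le_normalizer (by rw [normalizer_eq_top]; exact le_top) hd,
      ← Subgroup.index_ker, Subgroup.card_mul_index]
  refine parity b hs h0 δ.range hU fun u hu h => hn u fun v => ?_
  have : δ.ker ⊔ δ.range ≤ (b u).ker := by
    refine sup_le (fun e he => ?_) h
    obtain ⟨w, rfl⟩ := hu
    have he' : φ s e = e := by rwa [hk, mem_fix_zpowers] at he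
    rw [MonoidHom.mem_ker, hs]
    show b e (w⁻¹ * φ s w) = 1
    rw [map_mul, ← he', hinv, he', map_inv, inv_mul_cancel]
  exact this (ht ▸ Subgroup.mem_top v)

theorem pow_cases {u j : ℕ} (hu : u.Prime) (h2 : u ≠ 2) (h3 : u ≠ 3) (h1 : 1 ≤ j)
    (hj : 2 ^ j ≤ 16) (hd : u ∣ 2 ^ j - 1) : (u = 7 ∧ j = 3) ∨ (u = 5 ∧ j = 4) := by
  have : j ≤ 4 := by
    by_contra h
    have := Nat.pow_le_pow_right two_pos (show 5 ≤ j by omega)
    omega
  have hu2 := hu.two_le
  interval_cases j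
  · norm_num at hd; omega
  · have := (Nat.prime_dvd_prime_iff_eq hu Nat.prime_three).mp hd; omega
  · left; exact ⟨(Nat.prime_dvd_prime_iff_eq hu (by norm_num)).mp hd, rfl⟩
  · right
    rcases (Nat.Prime.dvd_mul hu (m := 3) (n := 5)).mp hd with h | h
    · have := (Nat.prime_dvd_prime_iff_eq hu Nat.prime_three).mp h; omega
    · exact ⟨(Nat.prime_dvd_prime_iff_eq hu Nat.prime_five).mp h, rfl⟩

theorem five_case [Finite G] {φ : G →* MulAut V} (hi : Function.Injective φ) (h2 : IsPGroup 2 V)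
    {S : Subgroup G} (hS : IsPGroup 5 S) {E : Subgroup V} (hE : E.index ≤ 16)
    (hES : E ≤ H2.fixSub φ S) {x c : G} (hx : orderOf x = 3) (hxS : x ∈ normalizer (S : Set G))
    (hc : c ∈ S) : x * c = c * x := by
  haveI : Fact (Nat.Prime 5) := ⟨Nat.prime_five⟩
  haveI : Fact (Nat.Prime 3) := ⟨Nat.prime_three⟩
  by_cases hS0 : S = ⊥
  · rw [hS0, Subgroup.mem_bot] at hc; simp [hc]
  have key : ∀ s ∈ S, s ≠ 1 → E = H2.fixSub φ (zpowers s) ∧ E.index = 16 := by
    intro s hs h1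
    have hle : zpowers s ≤ S := zpowers_le.mpr hs
    obtain ⟨j, hj1, hj, hd⟩ := idx_fix hi h2 (by norm_num) (hS.to_le hle)
      (by rwa [Ne, zpowers_eq_bot])
    have hle' := hES.trans (fix_anti φ hle)
    have h3 : (H2.fixSub φ (zpowers s)).index ≤ E.index :=
      Nat.le_of_dvd (Nat.pos_of_ne_zero Subgroup.index_ne_zero_of_finite)
        (Subgroup.index_dvd_of_le hle')
    rcases pow_cases Nat.prime_five (by norm_num) (by norm_num) hj1 (by omega) hd with h | h
    · omega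
    · rw [h.2] at hj
      exact ⟨eq_of_le_of_index_le hle' (by omega), by omega⟩
  obtain ⟨⟨s0, hs0⟩, hs1⟩ := Subgroup.ne_bot_iff_exists_ne_one.mp hS0
  have h16 := (key s0 hs0 fun h => hs1 (Subtype.ext h)).2
  letI : MulAction S V := MulAction.compHom V (φ.comp S.subtype)
  have hd : Nat.card S ∣ Nat.card ((E : Set V)ᶜ : Set V) := by
    refine H2.card_dvd_of_free (A := S)
      (X := (⟨(E : Set V)ᶜ, fun g v hv h => hv ?_⟩ : SubMulAction S V)) fun a v e => ?_
    · have h' : φ g v ∈ E := h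
      have := hES h' _ (S.inv_mem g.2)
      rw [inv_app] at this
      rw [this]; exact h'
    · by_contra h
      have := (key a a.2 fun h' => h (Subtype.ext h')).1
      exact v.2 (this.ge (mem_fix_zpowers.mpr (congrArg Subtype.val e)))
  have hc2 : Nat.card ((E : Set V)ᶜ : Set V) = 15 * Nat.card E := by
    have := Set.ncard_add_ncard_compl (E : Set V)
    have h' := E.card_mul_index
    rw [h16] at h'
    have e1 : (E : Set V).ncard = Nat.card E := rfl
    have e2 : ((E : Set V)ᶜ).ncard = Nat.card ((E : Set V)ᶜ : Set V) := rfl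
    omega
  obtain ⟨k, hk⟩ := hS.exists_card_eq
  obtain ⟨i, hi'⟩ := (h2.to_subgroup E).exists_card_eq
  rw [hc2, hk, hi'] at hd
  have h5 : 5 ^ k ∣ 5 := by
    have h6 : 5 ^ k ∣ 5 * (3 * 2 ^ i) := by rwa [← mul_assoc]
    exact (Nat.Coprime.pow_left k (Nat.Coprime.mul_right (by norm_num)
      (Nat.Coprime.pow_right i (by norm_num)))).dvd_of_dvd_mul_right h6
  have hcard : Nat.card S = 5 := by
    rcases (Nat.dvd_prime Nat.prime_five).mp h5 with h | h
    · exact absurd (Subgroup.card_eq_one.mp (hk.trans h)) hS0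
    · exact hk.trans h
  have hX : zpowers x ≤ normalizer (S : Set G) := zpowers_le.mpr hxS
  have hX3 : IsPGroup 3 (zpowers x) := IsPGroup.of_card (n := 1) (by rw [Nat.card_zpowers, hx]; rfl)
  have hm := card_fix_modEq (H2.conjAut hX) (B := ⊤) (hX3.to_subgroup _)
  have hdv := (H2.fixSub (H2.conjAut hX) ⊤).card_subgroup_dvd_card
  rw [hcard] at hm hdv
  have ht : H2.fixSub (H2.conjAut hX) ⊤ = ⊤ := by
    apply Subgroup.eq_top_of_card_eq
    rcases (Nat.dvd_prime Nat.prime_five).mp hdv with h | h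
    · rw [h] at hm; exact absurd hm (by decide)
    · rw [h, hcard]
  have := congrArg Subtype.val ((ht ▸ Subgroup.mem_top (⟨c, hc⟩ : S) :
    (⟨c, hc⟩ : S) ∈ H2.fixSub (H2.conjAut hX) ⊤) ⟨x, mem_zpowers x⟩ trivial)
  rw [H2.coe_conjAut_apply] at this
  exact mul_inv_eq_iff_eq_mul.mp this

theorem lemF [Finite G] [Group.IsSolvable G] {φ : G →* MulAut V} (hi : Function.Injective φ)
    (hI : Irr φ) (hc : ∀ a b : V, a * b = b * a) (h2 : IsPGroup 2 V)
    (b : V → V →* ℤˣ) (hs : ∀ v w, b v w = b w v) (h0 : ∀ v, b v v = 1)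
    (hn : ∀ u, (∀ v, b u v = 1) → u = 1) (hinv : ∀ g v w, b (φ g v) (φ g w) = b v w)
    (R : Sylow 3 G) (h4 : (H2.fixSub φ R).index ≤ 4) :
    ∀ g, ∀ v ∈ H2.fixSub φ R, φ g v ∈ H2.fixSub φ R := by
  haveI : Fact (Nat.Prime 3) := ⟨Nat.prime_three⟩
  haveI : Fact (Nat.Prime 2) := ⟨Nat.prime_two⟩
  by_cases hO : pCore 3 G = ⊥
  swap
  · obtain ⟨j, hj1, hj, hd⟩ := idx_fix hi h2 (by norm_num) H1.isPGroup_pCore hO
    have : H2.fixSub φ R = H2.fixSub φ (pCore 3 G) := by
      refine eq_of_le_of_index_le (fix_anti φ (H1.pCore_le_sylow R)) (h4.trans ?_)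
      rw [hj]
      by_cases h : j = 1
      · subst h; norm_num at hd
      · exact Nat.pow_le_pow_right two_pos (show 2 ≤ j by omega)
    rw [this]; exact fix_inv φ _
  by_cases hR : (R : Subgroup G) = ⊥
  · intro g v _ r hr
    rw [hR, Subgroup.mem_bot] at hr; simp [hr]
  exfalso
  have h3 : 3 ∣ Nat.card R := by
    obtain ⟨k, hk⟩ := R.2.exists_card_eq
    rcases k with _ | k
    · exact absurd (Subgroup.card_eq_one.mp hk) hR
    · exact hk ▸ dvd_pow_self 3 (by omega)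
  obtain ⟨⟨x, hxR⟩, hx⟩ := exists_prime_orderOf_dvd_card' 3 h3
  rw [Subgroup.orderOf_mk] at hx
  have hle : zpowers x ≤ R := zpowers_le.mpr hxR
  have hx1 : x ≠ 1 := by rintro rfl; simp at hx
  obtain ⟨u, hu, hux⟩ := exists_pCore_not_cent (R.2.to_le hle)
    (by rw [hO, le_bot_iff, zpowers_eq_bot]; exact hx1)
  haveI : Fact u.Prime := ⟨hu⟩
  have hu0 : pCore u G ≠ ⊥ := by 
    intro h; apply hux; rw [Subgroup.le_centralizer_iff, h]; exact bot_le
  have hu3 : u ≠ 3 := by rintro rfl; exact hu0 hO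
  have hu2 : u ≠ 2 := by
    rintro rfl
    have h5 := not_dvd_of_normal hi hI hc _ H1.isPGroup_pCore hu0
    obtain ⟨j, hj1, hj, -⟩ := idx_fix hi h2 (by norm_num) R.2 hR
    exact h5 ((dvd_pow_self 2 (by omega)).trans (hj ▸ Subgroup.index_dvd_card _))
  obtain ⟨g, hg, hgx⟩ : ∃ g ∈ pCore u G, g * x ≠ x * g := by
    by_contra h; push Not at h
    exact hux (zpowers_le.mpr fun g hg => h g hg)
  let E := H2.fixSub φ R ⊓ H2.fixSub φ (g • R : Sylow 3 G)
  have hE : E.index ≤ 16 := by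
    have e := card_fix_conj φ ⊤ (fun _ _ _ => trivial) R g
    rw [top_inf_eq, top_inf_eq] at e
    have e2 : (H2.fixSub φ (g • R : Sylow 3 G)).index = (H2.fixSub φ R).index := by
      have a1 := (H2.fixSub φ (g • R : Sylow 3 G)).card_mul_index
      rw [e, ← (H2.fixSub φ R).card_mul_index] at a1
      exact Nat.eq_of_mul_eq_mul_left Nat.card_pos a1
    have := Subgroup.index_inf_le (H := H2.fixSub φ R) (K := H2.fixSub φ (g • R : Sylow 3 G))
    rw [e2] at this
    exact this.trans (Nat.mul_le_mul h4 h4)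
  let C : Subgroup G := ⨅ v ∈ E, st φ v
  have hC : ∀ y, y ∈ C ↔ ∀ v ∈ E, φ y v = v := fun y => by simp only [C, mem_iInf, mem_st]
  let S := pCore u G ⊓ C
  have hxC : x ∈ C := (hC x).mpr fun v hv => hv.1 x hxR
  have hgC : g * x * g⁻¹ ∈ C := (hC _).mpr fun v hv => hv.2 _ ⟨x, hxR, rfl⟩
  have hcS : x⁻¹ * (g * x * g⁻¹) ∈ S := by
    refine ⟨?_, C.mul_mem (C.inv_mem hxC) hgC⟩
    have := mul_mem ((inferInstance : (pCore u G).Normal).conj_mem g hg x⁻¹) (inv_mem hg)
    simpa [mul_assoc] using this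
  have hc1 : x⁻¹ * (g * x * g⁻¹) ≠ 1 := by
    intro h; apply hgx
    rw [inv_mul_eq_one, eq_mul_inv_iff_mul_eq] at h; exact h.symm
  have hS : IsPGroup u S := H1.isPGroup_pCore.to_le inf_le_left
  have hES : E ≤ H2.fixSub φ S := fun v hv s hs => (hC s).mp hs.2 v hv
  have hS0 : S ≠ ⊥ := fun h => hc1 (Subgroup.mem_bot.mp (h ▸ hcS))
  have hus : u ∣ Nat.card S := by
    obtain ⟨k, hk⟩ := hS.exists_card_eq
    rcases k with _ | k
    · exact absurd (Subgroup.card_eq_one.mp hk) hS0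
    · exact hk ▸ dvd_pow_self u (by omega)
  obtain ⟨⟨s, hsS⟩, hso⟩ := exists_prime_orderOf_dvd_card' u hus
  rw [Subgroup.orderOf_mk] at hso
  have hle2 : zpowers s ≤ S := zpowers_le.mpr hsS
  obtain ⟨j, hj1, hj, hd⟩ := idx_fix hi h2 hu2 (hS.to_le hle2) (by
    rw [Ne, zpowers_eq_bot]; rintro rfl; rw [orderOf_one] at hso; exact hu.one_lt.ne hso)
  have h16 : (H2.fixSub φ (zpowers s)).index ≤ E.index :=
    Nat.le_of_dvd (Nat.pos_of_ne_zero Subgroup.index_ne_zero_of_finite)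
      (Subgroup.index_dvd_of_le (hES.trans (fix_anti φ hle2)))
  rcases pow_cases hu hu2 hu3 hj1 (by omega) hd with ⟨rfl, rfl⟩ | ⟨rfl, -⟩
  · exact not_seven hc h2 b hs h0 hn hinv (hso ▸ pow_orderOf_eq_one s) hj
  · have hxS : x ∈ normalizer (S : Set G) :=
      H2.le_normalizer_inf (A := zpowers x) (by rw [normalizer_eq_top]; exact le_top)
        ((zpowers_le.mpr hxC).trans le_normalizer) (mem_zpowers x)
    have hcm := five_case hi h2 hS hE hES hx hxS hcS
    set c := x⁻¹ * (g * x * g⁻¹) with hcdef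
    have e3 : (x * c) ^ 3 = 1 := by
      rw [hcdef, mul_inv_cancel_left, conj_pow, ← hx, pow_orderOf_eq_one]; simp
    rw [Commute.mul_pow hcm, ← hx, pow_orderOf_eq_one, one_mul, hx] at e3
    obtain ⟨k, hk⟩ := hS ⟨c, hcS⟩
    have hk' : c ^ 5 ^ k = 1 := congrArg Subtype.val hk
    exact hc1 (orderOf_eq_one_iff.mp (Nat.eq_one_of_dvd_coprimes
      (Nat.Coprime.pow_left k (by norm_num : Nat.Coprime 5 3)) (orderOf_dvd_of_pow_eq_one hk')
      (orderOf_dvd_of_pow_eq_one e3)))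

end H64.Palfy
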