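import Mathlib
import Cfsg.Agent.Lib.Palfy.B
import Cfsg.Agent.Lib.Core.CoprimeAbelian

/-! Normal abelian subgroups are cyclic under the normal Sylow condition. -/

set_option autoImplicit false
open Cfsg Subgroup
open scoped Pointwise

namespace H64.Palfy

variable {H W : Type*} [Group H] [Finite H]

section
variable [Group W] {φ : H →* MulAut W}

omit [Finite H] in
theorem NQ.pCore_eq_bot [Nontrivial W] (hi : Function.Injective φ) (hI : Irr φ) {q : ℕ}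
    (h : NQ φ q ⊤) : pCore q H = ⊥ := by
  obtain ⟨w, hw⟩ := exists_ne (1 : W)
  obtain ⟨Q, hQ, -⟩ := h w trivial hw
  exact eq_bot_of_fix hi hI _ hw ((H1.pCore_le_sylow Q).trans hQ)

omit [Finite H] in
theorem cent_of_norm {Q D : Subgroup H} [hD : D.Normal] (hQD : Q ⊓ D = ⊥) {d : H} (hd : d ∈ D)
    (hn : d ∈ normalizer (Q : Set H)) : d ∈ centralizer (Q : Set H) := by
  intro y hy
  have h1 : y * (d * y⁻¹ * d⁻¹) ∈ Q ⊓ D := by
    refine ⟨Q.mul_mem hy ((mem_normalizer_iff.mp hn _).mp (Q.inv_mem hy)), ?_⟩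
    have := D.mul_mem (hD.conj_mem d hd y) (D.inv_mem hd)
    simpa [mul_assoc] using this
  rw [hQD, Subgroup.mem_bot] at h1
  calc y * d = y * (d * y⁻¹ * d⁻¹) * (d * y) := by group
    _ = d * y := by rw [h1, one_mul]

theorem exists_cocyc [Finite W] [Nontrivial W] {A : Subgroup H} (hA : IsMulCommutative A)
    (hcop : (Nat.card A).Coprime (Nat.card W)) :
    ∃ A0 ≤ A, ∃ a ∈ A, A0 ⊔ zpowers a = A ∧ ∃ w, w ≠ 1 ∧ A0 ≤ st φ w := by
  by_contra hc
  have := H2.ext_le_of_forall_cocyclic (φ := φ.comp A.subtype) (K := ⊤) (M := ⊥) hA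
    (fun _ _ _ => trivial) (by rwa [Subgroup.card_top]) (fun B ⟨a, ha⟩ w hw => by
      by_contra h1
      refine hc ⟨B.map A.subtype, map_subtype_le _, a, a.2, ?_, w, h1, ?_⟩
      · have := congrArg (Subgroup.map A.subtype) ha
        rwa [Subgroup.map_sup, MonoidHom.map_zpowers, ← MonoidHom.range_eq_map,
          Subgroup.range_subtype] at this
      · rintro _ ⟨b, hb, rfl⟩
        exact hw.2 b hb)
  exact top_ne_bot (le_bot_iff.mp this)

omit [Finite H] in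
theorem smul_le_st {B : Subgroup H} {w : W} (g : H) (h : B ≤ st φ w) :
    MulAut.conj g • B ≤ st φ (φ g w) := by
  rintro _ ⟨b, hb, rfl⟩
  exact conj_mem_st g (h hb)

end

omit [Finite H] in
theorem card_smul (g : H) (B : Subgroup H) : Nat.card (MulAut.conj g • B : Subgroup H) = Nat.card B :=
  (Nat.card_congr (Subgroup.equivSMul (MulAut.conj g) B).toEquiv).symm

omit [Finite H] in
theorem smul_le {A B : Subgroup H} [hA : A.Normal] (g : H) (h : B ≤ A) : MulAut.conj g • B ≤ A := by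
  rintro _ ⟨b, hb, rfl⟩
  exact hA.conj_mem b (h hb) g

section
variable [CommGroup W] [Finite W] {φ : H →* MulAut W}

/-- The norm map of a subgroup. -/
noncomputable def nm (φ : H →* MulAut W) (B : Subgroup H) : W →* W :=
  letI := Fintype.ofFinite B
  H2.normHom (φ.comp B.subtype)

omit [Finite W] in
theorem nm_of_fix {B : Subgroup H} {v : W} (h : B ≤ st φ v) : nm φ B v = v ^ Nat.card B :=
  letI := Fintype.ofFinite B
  H2.normHom_of_fixed _ fun b => h b.2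

/-- The data of a maximal order of a subgroup with fixed points. -/
structure Mx (φ : H →* MulAut W) (A : Subgroup H) (m : ℕ) : Prop where
  comm : ∀ a ∈ A, ∀ b ∈ A, a * b = b * a
  max : ∀ B ≤ A, ∀ v, v ≠ 1 → B ≤ st φ v → Nat.card B ≤ m
  cop : (Nat.card W).Coprime m

omit [Finite W] in
theorem Mx.nm_eq_one {A : Subgroup H} {m : ℕ} (h : Mx φ A m) {B B' : Subgroup H} (hB : B ≤ A)
    (hB' : B' ≤ A) (c : Nat.card B = m) (c' : Nat.card B' = m) (hne : B' ≠ B) {v : W}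
    (hv : B' ≤ st φ v) : nm φ B v = 1 := by
  letI := Fintype.ofFinite B
  by_contra h1
  have h2 : B ⊔ B' ≤ st φ (nm φ B v) := by
    refine sup_le (fun b hb => H2.apply_normHom (φ.comp B.subtype) ⟨b, hb⟩ v) fun b hb => ?_
    rw [mem_st, nm, H2.normHom_apply, map_prod]
    refine Finset.prod_congr rfl fun a _ => ?_
    show φ b (φ a v) = φ a v
    rw [← app_mul, h.comm b (hB' hb) a (hB a.2), app_mul, hv hb]
  have h3 := h.max _ (sup_le hB hB') _ h1 h2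
  have e1 : B = B ⊔ B' := Subgroup.eq_of_le_of_card_ge le_sup_left (by omega)
  have e2 : B' = B ⊔ B' := Subgroup.eq_of_le_of_card_ge le_sup_right (by omega)
  exact hne (e2.trans e1.symm)

omit [Finite H] in
theorem Mx.inj {A : Subgroup H} {m : ℕ} (h : Mx φ A m) {v w : W} (e : v ^ m = w ^ m) : v = w :=
  (powCoprime h.cop).injective e

theorem Mx.fix {A : Subgroup H} [A.Normal] {m : ℕ} (h : Mx φ A m) {B0 B1 : Subgroup H}
    (l0 : B0 ≤ A) (l1 : B1 ≤ A) (c0 : Nat.card B0 = m) (c1 : Nat.card B1 = m) (hne : B1 ≠ B0)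
    {w0 w1 : W} (n0 : w0 ≠ 1) (n1 : w1 ≠ 1) (f0 : B0 ≤ st φ w0) (f1 : B1 ≤ st φ w1) {y : H}
    (hy : Odd (orderOf y)) (e : φ y (w0 * w1) = w0 * w1) : φ y w0 = w0 := by
  rw [map_mul] at e
  have l0' := smul_le y l0
  have l1' := smul_le y l1
  have c0' := (card_smul y B0).trans c0
  have c1' := (card_smul y B1).trans c1
  have f0' := smul_le_st y f0
  have f1' := smul_le_st y f1
  have a0 : nm φ B0 (φ y w0) * nm φ B0 (φ y w1) = w0 ^ m := by
    rw [← map_mul, e, map_mul, nm_of_fix f0, h.nm_eq_one l0 l1 c0 c1 hne f1, mul_one, c0]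
  have a1 : nm φ B1 (φ y w0) * nm φ B1 (φ y w1) = w1 ^ m := by
    rw [← map_mul, e, map_mul, nm_of_fix f1, h.nm_eq_one l1 l0 c1 c0 hne.symm f0, one_mul, c1]
  by_cases h0 : MulAut.conj y • B0 = B0
  · have h1 : MulAut.conj y • B1 ≠ B0 := fun h1 => hne (smul_left_cancel _ (h1.trans h0.symm))
    rw [h.nm_eq_one l0 l1' c0 c1' h1 f1', mul_one, nm_of_fix (h0 ▸ f0'), c0] at a0
    exact h.inj a0
  exfalso
  have h1 : MulAut.conj y • B1 = B0 := by
    by_contra h1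
    rw [h.nm_eq_one l0 l1' c0 c1' h1 f1', h.nm_eq_one l0 l0' c0 c0' h0 f0', mul_one] at a0
    exact n0 (h.inj (by rw [← a0, one_pow]))
  have h2 : MulAut.conj y • B0 = B1 := by
    by_contra h2
    rw [h.nm_eq_one l1 l1' c1 c1' (h1 ▸ hne.symm) f1', h.nm_eq_one l1 l0' c1 c0' h2 f0',
      mul_one] at a1
    exact n1 (h.inj (by rw [← a1, one_pow]))
  have h3 : MulAut.conj y * MulAut.conj y ∈ MulAction.stabilizer (MulAut H) B0 := by
    rw [MulAction.mem_stabilizer_iff, mul_smul, h2, h1]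
  obtain ⟨k, hk⟩ := hy
  have h4 : y = (y * y) ^ (k + 1) := by
    rw [← sq, ← pow_mul, show 2 * (k + 1) = (2 * k + 1) + 1 by ring, pow_succ, ← hk,
      pow_orderOf_eq_one, one_mul]
  have h5 := Subgroup.pow_mem _ h3 (k + 1)
  rw [← map_mul, ← map_pow, ← h4] at h5
  exact h0 h5

theorem Mx.same {A : Subgroup H} [A.Normal] {m : ℕ} (h : Mx φ A m) {q : ℕ} [hq : Fact q.Prime]
    (hq2 : q ≠ 2) (hN : NQ φ q ⊤) {B0 B1 : Subgroup H}
    (l0 : B0 ≤ A) (l1 : B1 ≤ A) (c0 : Nat.card B0 = m) (c1 : Nat.card B1 = m) (hne : B1 ≠ B0)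
    {w0 w1 : W} (n0 : w0 ≠ 1) (n1 : w1 ≠ 1) (f0 : B0 ≤ st φ w0) (f1 : B1 ≤ st φ w1)
    {Q0 : Sylow q H} (hQ : st φ w0 ≤ normalizer ((Q0 : Subgroup H) : Set H)) :
    (Q0 : Subgroup H) ≤ st φ w1 := by
  have hw : w0 * w1 ≠ 1 := by
    intro e
    have e1 := congrArg (nm φ B0) e
    rw [map_mul, map_one, nm_of_fix f0, h.nm_eq_one l0 l1 c0 c1 hne f1, mul_one, c0] at e1
    exact n0 (h.inj (by rw [e1, one_pow]))
  obtain ⟨Q, hQ1, -⟩ := hN _ trivial hw
  have ho : ∀ y ∈ (Q : Subgroup H), Odd (orderOf y) := by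
    intro y hy
    obtain ⟨k, hk⟩ := Q.2 ⟨y, hy⟩
    exact ((hq.1.odd_of_ne_two hq2).pow (n := k)).of_dvd_nat
      (orderOf_dvd_of_pow_eq_one (congrArg Subtype.val hk))
  have e0 : Q = Q0 := sylow_eq_of_le
    (le_trans (fun y hy => h.fix l0 l1 c0 c1 hne n0 n1 f0 f1 (ho y hy) (hQ1 hy)) hQ)
  rw [← e0]
  exact fun y hy => h.fix l1 l0 c1 c0 hne.symm n1 n0 f1 f0 (ho y hy)
    (by rw [mul_comm]; exact hQ1 hy)

theorem NQ.isCyclic [Nontrivial W] (hi : Function.Injective φ) (hI : Irr φ) {q : ℕ}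
    [hq : Fact q.Prime] (hq2 : q ≠ 2) (hN : NQ φ q ⊤) (hd : q ∣ Nat.card H) {t : ℕ}
    [ht : Fact t.Prime] (A : Subgroup H) [hA : A.Normal] (hAt : IsPGroup t A)
    (hc : ∀ a ∈ A, ∀ b ∈ A, a * b = b * a) : IsCyclic A := by
  classical
  by_contra hcyc
  have hA0 : A ≠ ⊥ := by rintro rfl; exact hcyc inferInstance
  obtain ⟨w, hw⟩ := exists_ne (1 : W)
  obtain ⟨A0, ⟨l0, w0, n0, f0⟩, hmax⟩ := Set.exists_max_image
    {B : Subgroup H | B ≤ A ∧ ∃ v, v ≠ 1 ∧ B ≤ st φ v} (fun B => Nat.card B) (Set.toFinite _)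
    ⟨⊥, bot_le, w, hw, bot_le⟩
  have h : Mx φ A (Nat.card A0) := by
    refine ⟨hc, fun B hB v hv hf => hmax B ⟨hB, v, hv, hf⟩, ?_⟩
    obtain ⟨k, hk⟩ := (hAt.to_le l0).exists_card_eq
    rw [hk]
    exact (Nat.Coprime.pow_left k ((Nat.Prime.coprime_iff_not_dvd ht.1).mpr
      (not_dvd_of_normal hi hI mul_comm A hAt hA0))).symm
  have h0 : A0 ≠ ⊥ := by
    rintro rfl
    haveI : IsMulCommutative A := ⟨⟨fun a b => Subtype.ext (hc a a.2 b b.2)⟩⟩
    refine hcyc (H2.isCyclic_of_fpf_of_comm (φ.comp A.subtype) fun a ha v hv => ?_)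
    by_contra hv1
    have := h.max (zpowers (a : H)) (zpowers_le.mpr a.2) v hv1 (zpowers_le.mpr hv)
    rw [Subgroup.card_bot, Nat.card_zpowers] at this
    have h2 := orderOf_pos (a : H)
    exact ha (Subtype.ext (orderOf_eq_one_iff.mp (by omega)))
  obtain ⟨g1, hg1⟩ : ∃ g : H, MulAut.conj g • A0 ≠ A0 := by
    by_contra hc'
    push Not at hc'
    haveI : A0.Normal := ⟨fun n hn g => hc' g ▸ ⟨n, hn, rfl⟩⟩
    exact h0 (eq_bot_of_fix hi hI A0 n0 f0)
  obtain ⟨Q0, hQ0, hQ0'⟩ := hN w0 trivial n0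
  have nn : ∀ g, φ g w0 ≠ 1 := fun g e => n0 ((map_eq_one_iff _ (φ g).injective).mp e)
  have k1 : ∀ g : H, MulAut.conj g • A0 ≠ A0 → (Q0 : Subgroup H) ≤ st φ (φ g w0) := fun g hg =>
    h.same hq2 hN l0 (smul_le g l0) rfl (card_smul g A0) hg n0 (nn g) f0 (smul_le_st g f0) hQ0'
  have k2 : ∀ g : H, (Q0 : Subgroup H) ≤ st φ (φ g w0) := by
    intro g
    by_cases hg : MulAut.conj g • A0 = A0
    · obtain ⟨Q1, -, hQ1⟩ := hN _ trivial (nn g1)
      rw [sylow_eq_of_le ((k1 g1 hg1).trans hQ1)]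
      exact h.same hq2 hN (smul_le g1 l0) l0 (card_smul g1 A0) rfl hg1.symm (nn g1) (nn g)
        (smul_le_st g1 f0) (hg ▸ smul_le_st g f0) hQ1
    · exact k1 g hg
  have k3 : (Q0 : Subgroup H) ≤ (st φ w0).normalCore := by
    intro y hy b
    rw [mem_st, app_mul, app_mul, k2 b⁻¹ hy, app_inv]
  rw [eq_bot_of_fix hi hI _ n0 (Subgroup.normalCore_le _), le_bot_iff] at k3
  exact Q0.ne_bot_of_dvd_card hd k3

end

end H64.Palfy
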