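import Mathlib
import Cfsg.Agent.Lib.Palfy.N0
import Cfsg.Agent.Lib.PGroup.Commutator
import Cfsg.Agent.Lib.Core.MinNormal

/-! Minimal normal prime-power subgroups not centralised by the Sylow `q`-subgroups. -/

set_option autoImplicit false
open Cfsg Subgroup
open scoped Pointwise commutatorElement

namespace H64.Palfy

variable {H : Type*} [Group H] [Finite H]

theorem invol_unique {C : Type*} [Group C] [Finite C] [IsCyclic C] {x y : C} (hx : x ^ 2 = 1)
    (hy : y ^ 2 = 1) (x1 : x ≠ 1) (y1 : y ≠ 1) : x = y := by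
  classical
  haveI := Fintype.ofFinite C
  by_contra h
  have h1 := IsCyclic.card_pow_eq_one_le (α := C) two_pos
  have h2 : ({1, x, y} : Finset C) ⊆ Finset.univ.filter (fun a : C => a ^ 2 = 1) := by
    intro a ha
    simp only [Finset.mem_insert, Finset.mem_singleton] at ha
    rcases ha with rfl | rfl | rfl <;> simp [hx, hy]
  have h3 := Finset.card_le_card h2
  rw [Finset.card_eq_three.mpr ⟨1, x, y, x1.symm, y1.symm, h, rfl⟩] at h3
  omega

omit [Finite H] in
theorem zpowers_normal {Z : Subgroup H} [hZ : Z.Normal] [IsCyclic Z] {z : H} (hz : z ∈ Z) :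
    (zpowers z).Normal := by
  obtain ⟨g, hg⟩ := IsCyclic.exists_generator (α := Z)
  have key : ∀ h : H, h * z * h⁻¹ ∈ zpowers z := by
    intro h
    obtain ⟨m, hm⟩ := hg ⟨z, hz⟩
    obtain ⟨k, hk⟩ := hg ⟨_, hZ.conj_mem g g.2 h⟩
    have hm' : (g : H) ^ m = z := congrArg Subtype.val hm
    have hk' : (g : H) ^ k = h * g * h⁻¹ := congrArg Subtype.val hk
    refine ⟨k, ?_⟩
    show z ^ k = _
    rw [← hm', ← zpow_mul, mul_comm, zpow_mul, hk', conj_zpow]
  refine ⟨?_⟩
  rintro _ ⟨k, rfl⟩ h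
  show h * z ^ k * h⁻¹ ∈ _
  rw [← conj_zpow]
  exact zpow_mem (key h) k

/-- A minimal normal `t`-subgroup not centralised by the Sylow `q`-subgroups. -/
structure MD (q t : ℕ) (D : Subgroup H) : Prop where
  normal : D.Normal
  pg : IsPGroup t D
  ne : q ≠ t
  nc : ∀ Q : Sylow q H, ¬ (Q : Subgroup H) ≤ centralizer (D : Set H)
  min : ∀ N : Subgroup H, N.Normal → N < D → ∀ Q : Sylow q H,
    (Q : Subgroup H) ≤ centralizer (N : Set H)

theorem exists_md [Group.IsSolvable H] {q : ℕ} [hq : Fact q.Prime] (hd : q ∣ Nat.card H)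
    (hO : pCore q H = ⊥) : ∃ t D, t.Prime ∧ MD (H := H) q t D := by
  obtain ⟨Q⟩ : Nonempty (Sylow q H) := inferInstance
  obtain ⟨t, ht, h⟩ := exists_pCore_not_cent Q.2
    (by rw [hO, le_bot_iff]; exact Q.ne_bot_of_dvd_card hd)
  have all : ∀ N : Subgroup H, N.Normal → ∀ Q Q' : Sylow q H,
      (Q : Subgroup H) ≤ centralizer (N : Set H) → (Q' : Subgroup H) ≤ centralizer (N : Set H) :=
    fun N _ Q Q' h => sylow_le_of_normal (not_dvd_index_of_le Q h) Q'
  obtain ⟨D, ⟨h1, h2, h3⟩, hmin⟩ := (wellFounded_lt (α := Subgroup H)).has_min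
    {D : Subgroup H | D.Normal ∧ IsPGroup t D ∧ ¬ (Q : Subgroup H) ≤ centralizer (D : Set H)}
    ⟨_, inferInstance, H1.isPGroup_pCore, h⟩
  refine ⟨t, D, ht, h1, h2, ?_, fun Q' h' => h3 (all D h1 _ _ h'), fun N hN hlt Q' => ?_⟩
  · rintro rfl
    apply h; rw [Subgroup.le_centralizer_iff, hO]; exact bot_le
  · by_contra hc
    exact hmin N ⟨hN, h2.to_le hlt.le, fun h' => hc (all N hN _ _ h')⟩ hlt

namespace MD
variable {q t : ℕ} [hq : Fact q.Prime] [ht : Fact t.Prime] {D : Subgroup H} (h : MD q t D)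
include h

theorem cop (Q : Sylow q H) : (Nat.card Q).Coprime (Nat.card D) :=
  IsPGroup.coprime_card_of_ne q t h.ne _ _ Q.2 h.pg

omit [Finite H] hq ht in
theorem nrm (X : Subgroup H) : X ≤ normalizer (D : Set H) := by
  haveI := h.normal
  rw [normalizer_eq_top]; exact le_top

theorem full {N : Subgroup H} (hN : N.Normal) (hle : N ≤ D) (Q : Sylow q H)
    (hc : ⁅D, (Q : Subgroup H)⁆ ≤ N) : N = D := by
  by_contra hne
  exact h.nc Q (H2.le_centralizer_of_commutator_le (H2.coprime_of_le_right (h.cop Q) hle) hc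
    (h.min N hN (lt_of_le_of_ne hle hne) Q))

theorem central {N : Subgroup H} (hN : N.Normal) (hlt : N < D) : N ≤ centralizer (D : Set H) := by
  haveI := h.normal
  obtain ⟨Q⟩ : Nonempty (Sylow q H) := inferInstance
  have := h.full (N := D ⊓ centralizer (N : Set H)) inferInstance inf_le_left Q
    (le_inf (commutator_le_left _ _) (H2.commutator_le_centralizer_of_normalizes
      (by rw [normalizer_eq_top]; exact le_top) (h.min N hN hlt Q)))
  rw [Subgroup.le_centralizer_iff, ← this]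
  exact inf_le_right

omit ht in
theorem ne_bot : D ≠ ⊥ := by
  obtain ⟨Q⟩ : Nonempty (Sylow q H) := inferInstance
  intro h0
  apply h.nc Q
  rw [Subgroup.le_centralizer_iff, h0]; exact bot_le

theorem card_of_cyclic [IsCyclic D] : Nat.card D = t ∧ t ≠ 2 := by
  haveI := h.normal
  obtain ⟨Q⟩ : Nonempty (Sylow q H) := inferInstance
  have hc : IsMulCommutative D := inferInstance
  have hc' : ∀ a ∈ D, ∀ b ∈ D, a * b = b * a := fun a ha b hb =>
    congrArg Subtype.val (hc.1.1 ⟨a, ha⟩ ⟨b, hb⟩)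
  let N : Subgroup H :=
    { carrier := {x | x ∈ D ∧ x ^ t = 1}
      one_mem' := ⟨one_mem _, one_pow _⟩
      mul_mem' := fun {a b} ha hb => ⟨mul_mem ha.1 hb.1, by
        rw [Commute.mul_pow (hc' a ha.1 b hb.1), ha.2, hb.2, one_mul]⟩
      inv_mem' := fun {a} ha => ⟨inv_mem ha.1, by rw [inv_pow, ha.2, inv_one]⟩ }
  have hN : N.Normal := ⟨fun n hn g => ⟨h.normal.conj_mem n hn.1 g, by
    rw [conj_pow, hn.2]; simp⟩⟩
  have hND : N = D := by
    by_contra hne
    have h1 := h.min N hN (lt_of_le_of_ne (fun x hx => hx.1) hne) Q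
    refine h.nc Q (H2.le_centralizer_of_prime_order hc (h.nrm _) (h.cop Q) fun v hv hp => ?_)
    refine Subgroup.le_centralizer_iff.mp h1 ⟨hv, ?_⟩
    obtain ⟨k, hk⟩ := h.pg ⟨v, hv⟩
    have := hp.eq_one_or_self_of_dvd
    have h2 : orderOf v ∣ t ^ k := orderOf_dvd_of_pow_eq_one (congrArg Subtype.val hk)
    rw [← (Nat.prime_dvd_prime_iff_eq hp ht.1).mp (hp.dvd_of_dvd_pow h2), pow_orderOf_eq_one]
  obtain ⟨g, hg⟩ := IsCyclic.exists_ofOrder_eq_natCard (α := D)
  have h1 : Nat.card D ∣ t := by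
    rw [← hg]
    exact orderOf_dvd_of_pow_eq_one (Subtype.ext (hND.ge g.2).2)
  have h2 : Nat.card D = t := ((Nat.dvd_prime ht.1).mp h1).resolve_left
    fun e => h.ne_bot (Subgroup.card_eq_one.mp e)
  refine ⟨h2, fun e => h.nc Q fun y _ d hd => ?_⟩
  obtain ⟨u, -, hu⟩ := (Nat.card_eq_two_iff' (1 : D)).mp (h2.trans e)
  by_cases d1 : d = 1
  · simp [d1]
  have e1 := hu ⟨d, hd⟩ fun e => d1 (congrArg Subtype.val e)
  have e2 := hu ⟨_, h.normal.conj_mem d hd y⟩ fun e => d1 (by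
    have : y * d * y⁻¹ = 1 := congrArg Subtype.val e
    simpa using this)
  have e3 : y * d * y⁻¹ = d := congrArg Subtype.val (e2.trans e1.symm)
  exact (mul_inv_eq_iff_eq_mul.mp e3).symm

theorem comm_mem {x y : H} (hx : x ∈ D) (hy : y ∈ D) : ⁅x, y⁆ ∈ D ⊓ centralizer (D : Set H) := by
  haveI := h.normal
  have h1 := H3.commutator_self_lt_of_isSolvable (H1.isSolvable_of_isPGroup h.pg) h.ne_bot
  exact le_inf h1.le (h.central inferInstance h1) (commutator_mem_commutator hx hy)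

theorem commute {x y u : H} (hx : x ∈ D) (hy : y ∈ D) (hu : u ∈ D) : Commute u ⁅x, y⁆ :=
  (h.comm_mem hx hy).2 u hu

theorem chief {N : Subgroup H} (hN : N.Normal) (hle : N ≤ D)
    (hn : ¬ N ≤ D ⊓ centralizer (D : Set H)) : N = D := by
  by_contra hne
  exact hn (le_inf hle (h.central hN (lt_of_le_of_ne hle hne)))

theorem pow_mem {x : H} (hx : x ∈ D) : x ^ t ∈ D ⊓ centralizer (D : Set H) := by
  haveI := h.normal
  by_contra hxt
  set Z := D ⊓ centralizer (D : Set H) with hZ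
  let N : Subgroup H :=
    { carrier := {x | x ∈ D ∧ x ^ t ∈ Z}
      one_mem' := ⟨one_mem _, by simp⟩
      mul_mem' := fun {a b} ha hb => ⟨mul_mem ha.1 hb.1, by
        rw [H5.mul_pow_of_class_two (h.commute hb.1 ha.1 ha.1) (h.commute hb.1 ha.1 hb.1)]
        exact mul_mem (mul_mem ha.2 hb.2) (Subgroup.pow_mem _ (h.comm_mem hb.1 ha.1) _)⟩
      inv_mem' := fun {a} ha => ⟨inv_mem ha.1, by rw [inv_pow]; exact inv_mem ha.2⟩ }
  have hN : N.Normal := ⟨fun n hn g => ⟨h.normal.conj_mem n hn.1 g, by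
    rw [conj_pow]; exact (inferInstance : Z.Normal).conj_mem _ hn.2 g⟩⟩
  have hxZ : x ∉ Z := fun e => hxt (Subgroup.pow_mem _ e _)
  obtain ⟨k, hk⟩ := h.pg ⟨x, hx⟩
  have hk' : x ^ t ^ k = 1 := congrArg Subtype.val hk
  obtain ⟨j, h1, h2⟩ := H5.exists_pow_not_mem_pow_mem (k := k) hxZ (hk' ▸ one_mem _)
  have := h.chief hN (fun x hx => hx.1) fun hle => h1 (hle ⟨Subgroup.pow_mem _ hx _, h2⟩)
  exact hxt (this.ge hx).2

theorem comm_pow {x y : H} (hx : x ∈ D) (hy : y ∈ D) : ⁅x, y⁆ ^ t = 1 := by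
  rw [← H5.commutator_pow_left (h.commute hx hy hx), commutatorElement_eq_one_iff_mul_comm]
  exact ((h.pow_mem hx).2 y hy).symm

theorem exp_of_odd (hna : ¬ D ≤ centralizer (D : Set H)) (h2 : t ≠ 2) {x : H} (hx : x ∈ D) :
    x ^ t = 1 := by
  haveI := h.normal
  have ho := ht.1.odd_of_ne_two h2
  obtain ⟨Q⟩ : Nonempty (Sylow q H) := inferInstance
  let N : Subgroup H :=
    { carrier := {x | x ∈ D ∧ x ^ t = 1}
      one_mem' := ⟨one_mem _, one_pow _⟩
      mul_mem' := fun {a b} ha hb => ⟨mul_mem ha.1 hb.1, H5.mul_pow_eq_one_of_class_two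
        (h.commute hb.1 ha.1 ha.1) (h.commute hb.1 ha.1 hb.1) ho ha.2 hb.2⟩
      inv_mem' := fun {a} ha => ⟨inv_mem ha.1, by rw [inv_pow, ha.2, inv_one]⟩ }
  have hN : N.Normal := ⟨fun n hn g => ⟨h.normal.conj_mem n hn.1 g, by
    rw [conj_pow, hn.2]; simp⟩⟩
  have hZ := h.min (D ⊓ centralizer (D : Set H)) inferInstance
    (lt_of_le_of_ne inf_le_left fun e => hna (e.ge.trans inf_le_right)) Q
  have := h.full hN (fun x hx => hx.1) Q (commutator_le.mpr fun d hd y hy => by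
    have hd' := h.normal.conj_mem _ (D.inv_mem hd) y
    have e : ⁅d, y⁆ = d * (y * d⁻¹ * y⁻¹) := by rw [commutatorElement_def]; group
    rw [e]
    refine ⟨mul_mem hd hd', ?_⟩
    rw [H5.mul_pow_eq_of_class_two_of_odd (h.commute hd' hd hd) (h.commute hd' hd hd') ho
      (h.comm_pow hd' hd), conj_pow, inv_pow, ← hZ hy _ (inv_mem (h.pow_mem hd))]
    group)
  exact (this.ge hx).2

end MD

end H64.Palfy
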