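import Mathlib
import Cfsg.Agent.Lib.Palfy.N1a

/-! The non-abelian case. -/

set_option autoImplicit false
open Cfsg Subgroup
open scoped Pointwise commutatorElement

namespace H64.Palfy

variable {H W : Type*} [Group H] [Finite H] [Group W] [Finite W] {φ : H →* MulAut W}

theorem exists_max_comm (D : Subgroup H) : ∃ A ≤ D, IsMulCommutative A ∧
    D ⊓ centralizer (A : Set H) ≤ A := by
  obtain ⟨A, ⟨h1, h2⟩, hmax⟩ := (wellFounded_gt (α := Subgroup H)).has_min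
    {A : Subgroup H | A ≤ D ∧ IsMulCommutative A} ⟨⊥, bot_le, inferInstance⟩
  refine ⟨A, h1, h2, fun x hx => ?_⟩
  by_contra hxA
  exact hmax _ ⟨sup_le h1 (zpowers_le.mpr hx.1), H5.isMulCommutative_sup_zpowers h2 hx.2⟩
    (lt_of_le_of_ne le_sup_left fun e => hxA (e.ge (mem_sup_right (mem_zpowers x))))

theorem MD.four [Nontrivial W] (hi : Function.Injective φ) (hI : Irr φ)
    (hc : ∀ a b : W, a * b = b * a) {q t : ℕ} [hq : Fact q.Prime] [ht : Fact t.Prime]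
    {D : Subgroup H} (h : MD q t D) (hN : NQ φ q ⊤) (hna : ¬ D ≤ centralizer (D : Set H))
    [IsCyclic (D ⊓ centralizer (D : Set H) : Subgroup H)] :
    t = 2 ∧ ∃ Q : Sylow q H, ∃ a ∈ D, ∃ k ∈ D, ∀ d ∈ D,
      d ∈ centralizer ((Q : Subgroup H) : Set H) ∨ a⁻¹ * d ∈ centralizer ((Q : Subgroup H) : Set H) ∨
      k⁻¹ * d ∈ centralizer ((Q : Subgroup H) : Set H) ∨
      (k * a)⁻¹ * d ∈ centralizer ((Q : Subgroup H) : Set H) := by
  haveI := h.normal
  set Z := D ⊓ centralizer (D : Set H) with hZ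
  obtain ⟨A, hAD, hA, hCA⟩ := exists_max_comm D
  have hA' : ∀ a ∈ A, ∀ b ∈ A, a * b = b * a := fun a ha b hb =>
    congrArg Subtype.val (hA.1.1 ⟨a, ha⟩ ⟨b, hb⟩)
  have hZA : Z ≤ A := le_trans (inf_le_inf_left _ (centralizer_le hAD)) hCA
  have hcop : (Nat.card A).Coprime (Nat.card W) := by
    obtain ⟨k, hk⟩ := (h.pg.to_le hAD).exists_card_eq
    rw [hk]
    exact Nat.Coprime.pow_left k ((Nat.Prime.coprime_iff_not_dvd ht.1).mpr
      (not_dvd_of_normal hi hI hc D h.pg h.ne_bot))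
  obtain ⟨A0, l0, a, ha, hs, w, hw, f0⟩ := exists_cocyc (φ := φ) hA hcop
  obtain ⟨Q, -, hQ⟩ := hN w trivial hw
  set C := centralizer ((Q : Subgroup H) : Set H) with hC
  have h0C : A0 ≤ C := fun x hx =>
    cent_of_norm (H2.inf_eq_bot_of_coprime_card (h.cop Q)) (hAD (l0 hx)) (hQ (f0 hx))
  have hZC : Z ≤ C := Subgroup.le_centralizer_iff.mp (h.min Z inferInstance
    (lt_of_le_of_ne inf_le_left fun e => hna (e.ge.trans inf_le_right)) Q)
  have h0Z : ∀ z ∈ Z, z ∈ A0 → z = 1 := fun z hz hz0 => by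
    haveI := zpowers_normal hz
    exact zpowers_eq_bot.mp (eq_bot_of_fix hi hI _ hw (zpowers_le.mpr (f0 hz0)))
  have han : a ∈ normalizer (A0 : Set H) :=
    centralizer_le_normalizer _ fun x hx => hA' x (l0 hx) a ha
  have hdec : ∀ x ∈ A, ∃ y ∈ A0, ∃ i : ℕ, x = y * a ^ i := fun x hx =>
    (H5.mem_sup_zpowers_iff_nat han).mp (hs.ge hx)
  have haB : a ∉ A0 ⊔ Z := by
    intro haB
    have hAC : A ≤ C := by
      rw [← hs]; exact sup_le h0C (zpowers_le.mpr (sup_le h0C hZC haB))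
    refine h.nc Q (H2.le_centralizer_of_normal_centralizer_le (C := A) (h.nrm _) (h.cop Q)
      (H2.le_normalizer_of_commutator_le hAD ?_) (Subgroup.le_centralizer_iff.mp hAC)
      (hCA.trans hAC))
    exact commutator_le.mpr fun x hx y hy => hZA (h.comm_mem hx hy)
  obtain ⟨x0, hx0, y0, hy0, hxy⟩ : ∃ x ∈ D, ∃ y ∈ D, ⁅x, y⁆ ≠ 1 := by
    by_contra hc'
    push Not at hc'
    exact hna fun x hx y hy => commutatorElement_eq_one_iff_mul_comm.mp (hc' y hy x hx)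
  have ht2 : t = 2 := by
    by_contra h2
    have hz := h.comm_mem hx0 hy0
    obtain ⟨y, hy, i, e⟩ := hdec _ (hZA hz)
    have h3 : a ^ i ∈ A0 ⊔ Z := by
      have := mul_mem (mem_sup_left (inv_mem hy) : _ ∈ A0 ⊔ Z) (mem_sup_right hz)
      rwa [e, inv_mul_cancel_left] at this
    obtain ⟨j, rfl⟩ := H5.dvd_of_pow_mem ht.1 haB (mem_sup_right (h.pow_mem (hAD ha))) h3
    rw [pow_mul, h.exp_of_odd hna h2 (hAD ha), one_pow, mul_one] at e
    exact hxy (h0Z _ hz (e ▸ hy))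
  subst ht2
  refine ⟨rfl, Q, a, hAD ha, ?_⟩
  have h1 : ∀ x ∈ A, x ∈ C ∨ a⁻¹ * x ∈ C := by
    intro x hx
    obtain ⟨y, hy, i, rfl⟩ := hdec x hx
    have h2 : a ^ 2 ∈ C := hZC (h.pow_mem (hAD ha))
    rcases Nat.even_or_odd' i with ⟨j, rfl | rfl⟩
    · left; rw [pow_mul]; exact mul_mem (h0C hy) (Subgroup.pow_mem _ h2 _)
    · right
      rw [← mul_assoc, hA' _ (inv_mem ha) y (l0 hy), pow_succ', mul_assoc, inv_mul_cancel_left,
        pow_mul]
      exact mul_mem (h0C hy) (Subgroup.pow_mem _ h2 _)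
  set K := D ⊓ centralizer (A0 : Set H) with hK
  have hKA : ∀ x ∈ K, ⁅x, a⁆ = 1 → x ∈ A := fun x hx e => hCA ⟨hx.1, by
    have : A ≤ centralizer {x} := by
      rw [← hs]
      refine sup_le (fun y hy => mem_centralizer_singleton_iff.mpr (hx.2 y hy))
        (zpowers_le.mpr (mem_centralizer_singleton_iff.mpr ?_))
      exact (commutatorElement_eq_one_iff_mul_comm.mp e).symm
    exact fun y hy => mem_centralizer_singleton_iff.mp (this hy)⟩
  obtain ⟨k, hk, h2⟩ : ∃ k ∈ D, ∀ x ∈ K, x ∈ A ∨ k⁻¹ * x ∈ A := by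
    by_cases hKA' : K ≤ A
    · exact ⟨1, one_mem _, fun x hx => Or.inl (hKA' hx)⟩
    obtain ⟨k, hk, hkA⟩ := SetLike.not_le_iff_exists.mp hKA'
    refine ⟨k, hk.1, fun x hx => ?_⟩
    by_cases hx1 : ⁅x, a⁆ = 1
    · exact Or.inl (hKA x hx hx1)
    right
    refine hKA _ (mul_mem (inv_mem hk) hx) ?_
    have e : ⁅x, a⁆ = ⁅k, a⁆ := congrArg Subtype.val (invol_unique (C := Z)
      (x := ⟨_, h.comm_mem hx.1 (hAD ha)⟩) (y := ⟨_, h.comm_mem hk.1 (hAD ha)⟩)
      (Subtype.ext (h.comm_pow hx.1 (hAD ha))) (Subtype.ext (h.comm_pow hk.1 (hAD ha)))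
      (fun e => hx1 (congrArg Subtype.val e)) (fun e => hkA (hKA k hk (congrArg Subtype.val e))))
    rw [H5.commutator_mul_left_of_commute (h.commute hx.1 (hAD ha) (inv_mem hk.1)),
      H5.commutator_inv_left_of_commute (h.commute hk.1 (hAD ha) hk.1), e, mul_inv_cancel]
  have h3 : ⁅D, (Q : Subgroup H)⁆ ≤ K := by
    refine le_inf (commutator_le_left _ _) ?_
    rw [← commutator_eq_bot_iff_le_centralizer]
    apply commutator_commutator_eq_bot_of_rotate
    · rw [commutator_comm (Q : Subgroup H), commutator_eq_bot_iff_le_centralizer.mpr h0C,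
        commutator_bot_left]
    · rw [commutator_eq_bot_iff_le_centralizer]
      exact le_trans (commutator_le.mpr fun x hx y hy => h.comm_mem (hAD (l0 hx)) hy) hZC
  refine ⟨k, hk, fun d hd => ?_⟩
  obtain ⟨n, hn, c, hc', rfl⟩ := H2.exists_commutator_mul_centralizer (h.nrm _) (h.cop Q)
    (Or.inr (H1.isSolvable_of_isPGroup h.pg)) hd
  rcases h2 n (h3 hn) with h4 | h4
  · rcases h1 _ h4 with h5 | h5
    · exact Or.inl (mul_mem h5 hc'.2)
    · exact Or.inr (Or.inl (by rw [← mul_assoc]; exact mul_mem h5 hc'.2))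
  · rcases h1 _ h4 with h5 | h5
    · exact Or.inr (Or.inr (Or.inl (by rw [← mul_assoc]; exact mul_mem h5 hc'.2)))
    · refine Or.inr (Or.inr (Or.inr ?_))
      rw [mul_inv_rev, mul_assoc, ← mul_assoc k⁻¹, ← mul_assoc]
      exact mul_mem h5 hc'.2

end H64.Palfy
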