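import Mathlib
import Cfsg.Agent.Lib.Palfy.N1b
import Cfsg.Agent.Lib.Palfy.F
import Cfsg.Agent.Lib.Deg.Cliff

/-! A linear character of a normal subgroup whose orbit length is divisible by `q`. -/

set_option autoImplicit false
open Cfsg Subgroup
open scoped Pointwise commutatorElement

namespace H64.Palfy

section
variable {H X : Type*} [Group H] [Group X]

/-- The action on linear characters. -/
noncomputable def dualA (ψ : H →* MulAut X) : H →* MulAut (X →* ℂˣ) where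
  toFun g := (ψ g).monoidHomCongrLeft
  map_one' := by ext μ x; rw [map_one]; rfl
  map_mul' a b := by
    ext μ x
    simp [MulAut.mul_def]

theorem dualA_apply (ψ : H →* MulAut X) (g : H) (μ : X →* ℂˣ) (x : X) :
    dualA ψ g μ x = μ (ψ g⁻¹ x) := by
  rw [map_inv]; rfl

theorem mem_st_dualA {ψ : H →* MulAut X} {g : H} {μ : X →* ℂˣ} :
    g ∈ st (dualA ψ) μ ↔ ∀ x, μ (ψ g x) = μ x := by
  rw [← Subgroup.inv_mem_iff, mem_st, MonoidHom.ext_iff]
  simp only [dualA_apply, inv_inv]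

/-- The action on the linear characters of a normal subgroup. -/
noncomputable abbrev dual (N : Subgroup H) [N.Normal] : H →* MulAut (N →* ℂˣ) :=
  dualA MulAut.conjNormal

theorem st_dual (N : Subgroup H) [N.Normal] (μ : N →* ℂˣ) :
    st (dual N) μ = H7.inertia (fun n => (μ n : ℂ)) := by
  ext g
  rw [mem_st_dualA, H7.mem_inertia']
  exact forall_congr' fun n => Units.val_inj.symm

theorem index_le_four (E : Subgroup X) (a k : X)
    (h : ∀ v, v ∈ E ∨ a⁻¹ * v ∈ E ∨ k⁻¹ * v ∈ E ∨ (k * a)⁻¹ * v ∈ E) : E.index ≤ 4 := by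
  let f : Fin 4 → X ⧸ E := ![(1 : X), a, k, (k * a : X)]
  have hf : Function.Surjective f := by
    intro v
    obtain ⟨v, rfl⟩ := QuotientGroup.mk_surjective v
    rcases h v with h | h | h | h
    · exact ⟨0, QuotientGroup.eq.mpr (by simpa using h)⟩
    · exact ⟨1, QuotientGroup.eq.mpr h⟩
    · exact ⟨2, QuotientGroup.eq.mpr h⟩
    · exact ⟨3, QuotientGroup.eq.mpr h⟩
  have := Nat.card_le_card_of_surjective f hf
  rwa [Nat.card_fin] at this

theorem exists_form (hc : ∀ x y : X, ⁅x, y⁆ ∈ center X) (h2 : ∀ x y : X, ⁅x, y⁆ ^ 2 = 1)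
    (hz : ∀ x y u v : X, ⁅x, y⁆ ≠ 1 → ⁅u, v⁆ ≠ 1 → ⁅x, y⁆ = ⁅u, v⁆) :
    ∃ b : X ⧸ center X → (X ⧸ center X →* ℤˣ), ∀ x y : X, b x y = 1 ↔ ⁅x, y⁆ = 1 := by
  classical
  have hcm : ∀ u x y : X, Commute u ⁅x, y⁆ := fun u x y => mem_center_iff.mp (hc x y) u
  let β : X → X →* ℤˣ := fun x => MonoidHom.mk' (fun y => if ⁅x, y⁆ = 1 then 1 else -1) (by
    intro y y'
    rw [H5.commutator_mul_right_of_commute (hcm _ _ _)]
    by_cases h1 : ⁅x, y⁆ = 1 <;> by_cases h2' : ⁅x, y'⁆ = 1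
    · simp [h1, h2']
    · simp [h1, h2']
    · simp [h1, h2']
    · rw [if_neg h1, if_neg h2', if_pos (by rw [hz _ _ _ _ h1 h2', ← sq, h2])]; simp)
  have hβ : ∀ x y, β x y = 1 ↔ ⁅x, y⁆ = 1 := fun x y => by
    show (if ⁅x, y⁆ = 1 then (1 : ℤˣ) else -1) = 1 ↔ _
    split_ifs with h <;> simp [h]
  refine ⟨fun v => QuotientGroup.lift _ (β v.out) fun z hz => (hβ _ _).mpr
    (commutatorElement_eq_one_iff_mul_comm.mpr (mem_center_iff.mp hz _)), fun x y => ?_⟩
  obtain ⟨c, hc'⟩ := QuotientGroup.mk_out_eq_mul (center X) x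
  show β (x : X ⧸ center X).out y = 1 ↔ _
  rw [hβ, hc', H5.commutator_mul_left_of_commute (hcm _ _ _),
    commutatorElement_eq_one_iff_mul_comm.mpr (mem_center_iff.mp c.2 y).symm, one_mul]

theorem lemD [Finite H] [Group.IsSolvable H] [Finite X] (ψ : H →* MulAut X) (hX : IsPGroup 2 X)
    (hc : ∀ x y : X, ⁅x, y⁆ ∈ center X) (h2 : ∀ x y : X, ⁅x, y⁆ ^ 2 = 1)
    (hz : ∀ x y u v : X, ⁅x, y⁆ ≠ 1 → ⁅u, v⁆ ≠ 1 → ⁅x, y⁆ = ⁅u, v⁆)
    (hI : ∀ N : Subgroup X, (∀ h, ∀ x ∈ N, ψ h x ∈ N) → N ≤ center X ∨ N = ⊤)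
    {q : ℕ} [hq : Fact q.Prime] (hq2 : q ≠ 2) (Q : Sylow q H) (a k : X)
    (h4 : ∀ d, d ∈ H2.fixSub ψ Q ∨ a⁻¹ * d ∈ H2.fixSub ψ Q ∨ k⁻¹ * d ∈ H2.fixSub ψ Q ∨
      (k * a)⁻¹ * d ∈ H2.fixSub ψ Q)
    (hn : ∃ y ∈ (Q : Subgroup H), ∃ d, d⁻¹ * ψ y d ∉ center X) :
    q = 3 ∧ ∃ μ : X →* ℂˣ, q ∣ (st (dualA ψ) μ).index := by
  obtain ⟨b, hb⟩ := exists_form hc h2 hz
  have hZ : ∀ h, ∀ x ∈ center X, ψ h x ∈ center X := fun h x hx => mem_center_iff.mpr fun y => by
    rw [← app_inv ψ h y, ← map_mul, ← map_mul, mem_center_iff.mp hx]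
  let φ := H2.quotAut ψ (center X) hZ
  have hφ : ∀ h (x : X), φ h x = (ψ h x : X) := H2.quotAut_mk ψ _ hZ
  have hf := φ.rangeRestrict_surjective
  haveI : Finite φ.range := Finite.of_surjective _ hf
  haveI : Group.IsSolvable φ.range := solvable_of_surjective hf
  have hi := φ.range.subtype_injective
  have hV : IsPGroup 2 (X ⧸ center X) := hX.to_quotient _
  have ext : ∀ s t : ℤˣ, (s = 1 ↔ t = 1) → s = t := by decide
  have hs : ∀ v w, b v w = b w v := by
    intro v w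
    obtain ⟨v, rfl⟩ := QuotientGroup.mk_surjective v
    obtain ⟨w, rfl⟩ := QuotientGroup.mk_surjective w
    apply ext
    rw [hb, hb, commutatorElement_eq_one_iff_mul_comm, commutatorElement_eq_one_iff_mul_comm,
      eq_comm]
  have hnd : ∀ u, (∀ v, b u v = 1) → u = 1 := by
    intro u hu
    obtain ⟨u, rfl⟩ := QuotientGroup.mk_surjective u
    exact (QuotientGroup.eq_one_iff _).mpr (mem_center_iff.mpr fun y =>
      (commutatorElement_eq_one_iff_mul_comm.mp ((hb _ _).mp (hu y))).symm)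
  have hinv : ∀ g v w, b (φ g v) (φ g w) = b v w := by
    intro g v w
    obtain ⟨v, rfl⟩ := QuotientGroup.mk_surjective v
    obtain ⟨w, rfl⟩ := QuotientGroup.mk_surjective w
    apply ext
    rw [hφ, hφ, hb, hb, ← map_commutatorElement, map_eq_one_iff _ (ψ g).injective]
  have hE : H2.fixSub φ.range.subtype (Q.mapSurjective hf : Sylow q φ.range) = H2.fixSub φ Q := by
    ext v
    constructor
    · exact fun h y hy => h _ ⟨y, hy, rfl⟩
    · rintro h _ ⟨y, hy, rfl⟩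
      exact h y hy
  have hE4 : (H2.fixSub φ Q).index ≤ 4 := by
    have hm : ∀ x ∈ H2.fixSub ψ Q, (x : X ⧸ center X) ∈ H2.fixSub φ Q := fun x hx y hy => by
      rw [hφ, hx y hy]
    refine index_le_four _ (a : X ⧸ center X) k fun v => ?_
    obtain ⟨v, rfl⟩ := QuotientGroup.mk_surjective v
    rcases h4 v with h | h | h | h
    exacts [Or.inl (hm _ h), Or.inr (Or.inl (hm _ h)), Or.inr (Or.inr (Or.inl (hm _ h))),
      Or.inr (Or.inr (Or.inr (hm _ h)))]
  obtain ⟨y, hy, d, hd⟩ := hn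
  have hdE : (d : X ⧸ center X) ∉ H2.fixSub φ Q := fun h => hd (by
    have := h y hy
    rw [hφ] at this
    exact QuotientGroup.eq.mp this.symm)
  have hq3 : q = 3 := by
    obtain ⟨j, hj1, hj, hd'⟩ := idx_fix hi hV hq2 (Q.mapSurjective hf).2 (fun e => hdE (by
      rw [← hE, e]; intro r hr; rw [Subgroup.mem_bot.mp hr]; rfl))
    rw [hE] at hj
    by_contra h3
    rcases pow_cases hq.1 hq2 h3 hj1 (by omega) hd' with ⟨-, rfl⟩ | ⟨-, rfl⟩ <;> omega
  subst hq3
  have hF := lemF hi (fun U hU => by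
      rcases hI (U.comap (QuotientGroup.mk' _)) (fun h x hx => by
        have := hU ⟨φ h, h, rfl⟩ _ hx
        exact (hφ h x ▸ this : ((ψ h x : X) : X ⧸ center X) ∈ U)) with h | h
      · left
        rw [eq_bot_iff]
        intro u hu
        obtain ⟨u, rfl⟩ := QuotientGroup.mk_surjective u
        exact (QuotientGroup.eq_one_iff _).mpr (h hu)
      · right
        rw [eq_top_iff]
        intro u _
        obtain ⟨u, rfl⟩ := QuotientGroup.mk_surjective u
        exact (h ▸ Subgroup.mem_top u : u ∈ U.comap (QuotientGroup.mk' _)))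
    (fun v w => by
      obtain ⟨v, rfl⟩ := QuotientGroup.mk_surjective v
      obtain ⟨w, rfl⟩ := QuotientGroup.mk_surjective w
      rw [← commutatorElement_eq_one_iff_mul_comm]
      exact (QuotientGroup.eq_one_iff ⁅v, w⁆).mpr (hc v w))
    hV b hs (fun v => by
      obtain ⟨v, rfl⟩ := QuotientGroup.mk_surjective v
      rw [hb]; simp) hnd (by rintro ⟨_, g, rfl⟩; exact hinv g) (Q.mapSurjective hf) (hE ▸ hE4)
  rw [hE] at hF
  let ι : ℤˣ →* ℂˣ := Units.map (Int.castRingHom ℂ).toMonoidHom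
  have hι : Function.Injective ι := Units.map_injective Int.cast_injective
  refine ⟨rfl, ι.comp ((b d).comp (QuotientGroup.mk' _)), ?_⟩
  by_contra h3
  obtain ⟨Q', hQ'⟩ := exists_sylow_le h3
  obtain ⟨g, rfl⟩ := MulAction.exists_smul_eq H Q Q'
  have h5 : ∀ u ∈ ((g • Q : Sylow 3 H) : Subgroup H), φ u d = d := by
    intro u hu
    have h6 := mem_st_dualA.mp (hQ' hu)
    rw [← inv_mul_eq_one]
    refine hnd _ fun v => ?_
    obtain ⟨v, rfl⟩ := (φ u).surjective v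
    obtain ⟨v, rfl⟩ := QuotientGroup.mk_surjective v
    have h7 : b d (φ u v) = b d v := by rw [hφ]; exact hι (h6 v)
    rw [hs, map_mul, map_inv, hinv, hs _ (d : X ⧸ center X), hs _ (d : X ⧸ center X), h7,
      inv_mul_cancel]
  have h8 : φ g⁻¹ d ∈ H2.fixSub φ Q := fun r hr => by
    have := conj_mem_st (φ := φ) g⁻¹ (h5 (g * r * g⁻¹) ⟨r, hr, rfl⟩)
    simpa [mul_assoc, mem_st] using this
  have h9 := hF ⟨φ g, g, rfl⟩ _ h8
  exact hdE (app_inv φ g d ▸ h9)

end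

end H64.Palfy
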