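import Mathlib
import Cfsg.Agent.Lib.Palfy.ND4
import Cfsg.Agent.Lib.Deg.FewDeg2
import Cfsg.Agent.Lib.Core.CoprimeAbelian
import Cfsg.Agent.S0033

/-! Groups without divisibility among non-linear degrees: the Frobenius quotient. -/

set_option autoImplicit false
open Cfsg Subgroup
open scoped Pointwise commutatorElement ComplexConjugate

namespace H64.Palfy

variable {G : Type*} [Group G] [Finite G]

theorem nil_of_fpf {K : Subgroup G} [K.Normal] {a : G} (ha : (orderOf a).Prime)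
    (hf : ∀ x ∈ K, a * x = x * a → x = 1) (hK : K ≠ ⊥) : Group.IsNilpotent K := by
  have hφ : ∀ x : K, MulAut.conjNormal a x = x → x = 1 := fun x hx =>
    Subtype.ext (hf x x.2 (mul_inv_eq_iff_eq_mul.1 (congrArg Subtype.val hx)))
  refine Cfsg.Agent.S0033.result _ hφ _ ha (orderOf_eq_prime (hp := ⟨ha⟩) ?_ fun e => ?_)
  · rw [← map_pow, pow_orderOf_eq_one, map_one]
  · obtain ⟨x, hx, h1⟩ := (bot_or_exists_ne_one K).resolve_left hK
    exact h1 (congrArg Subtype.val (hφ ⟨x, hx⟩ (by rw [e]; rfl)))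

variable {K N : Subgroup G} [K.Normal] [N.Normal] {q : ℕ}

theorem caseB_cyc (h : H87.CaseB K q N) : IsCyclic (G ⧸ N) := by
  let V := N.map (QuotientGroup.mk' K)
  haveI : V.Normal := Normal.map inferInstance _ (QuotientGroup.mk'_surjective K)
  haveI : Nontrivial V := (nontrivial_iff_ne_bot V).mpr fun e =>
    h.lt.not_ge (by rwa [Subgroup.map_eq_bot_iff, QuotientGroup.ker_mk'] at e)
  letI : CommGroup V := { (inferInstance : Group V) with
    mul_comm := by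
      rintro ⟨_, a, ha, rfl⟩ ⟨_, b, hb, rfl⟩
      exact Subtype.ext (commutatorElement_eq_one_iff_mul_comm.mp
        ((QuotientGroup.eq_one_iff _).mpr (h.comm a ha b hb))) }
  haveI : IsMulCommutative (G ⧸ N) := Normal.quotient_commutative_iff_commutator_le.mpr h.le
  refine H2.isCyclic_of_fpf_of_comm (V := V) (QuotientGroup.lift N
    ((MulAut.conjNormal (H := V)).comp (QuotientGroup.mk' K)) fun n hn => MulEquiv.ext ?_) ?_
  · rintro ⟨_, x, hx, rfl⟩
    exact Subtype.ext (mul_inv_eq_one.mp ((QuotientGroup.eq_one_iff _).mpr (h.comm n hn x hx)))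
  · rintro g hg ⟨_, x, hx, rfl⟩ e
    obtain ⟨g, rfl⟩ := QuotientGroup.mk_surjective g
    exact Subtype.ext ((QuotientGroup.eq_one_iff _).mpr (h.fpf g
      (mt (QuotientGroup.eq_one_iff _).mpr hg) x hx ((QuotientGroup.eq_one_iff _).mp
        (mul_inv_eq_one.mpr (congrArg Subtype.val e)))))

theorem caseB_cr (h : H87.CaseB K q N) (hc : HC N) (hq : ¬ q ∣ Nat.card ↥⁅N, N⁆)
    (h0 : ⁅N, N⁆ ≠ ⊥) : ∃ y r, r.Prime ∧ CR N y r := by
  haveI := Fact.mk h.prime
  obtain ⟨r, hr, hd⟩ := Nat.exists_prime_and_dvd h.one_lt.ne'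
  haveI := Fact.mk hr
  have hBK : ⁅N, N⁆ ≤ K := commutator_le.mpr h.comm
  have sj := QuotientGroup.mk'_surjective ⁅N, N⁆
  have ix : ∀ {X : Subgroup G}, ⁅N, N⁆ ≤ X → (X.map (QuotientGroup.mk' ⁅N, N⁆)).index = X.index :=
    fun hX => index_map_eq _ sj (by rwa [QuotientGroup.ker_mk'])
  have mm : ∀ {X : Subgroup G} {x : G}, ⁅N, N⁆ ≤ X →
      ((x : G ⧸ ⁅N, N⁆) ∈ X.map (QuotientGroup.mk' ⁅N, N⁆) ↔ x ∈ X) := fun {X x} hX => by
    rw [← QuotientGroup.mk'_apply, ← mem_comap, comap_map_eq_self (by rwa [QuotientGroup.ker_mk'])]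
  have hBN := commutator_le_left N N
  haveI : (N.map (QuotientGroup.mk' ⁅N, N⁆)).Normal := Normal.map inferInstance _ sj
  have cm : ∀ a ∈ N.map (QuotientGroup.mk' ⁅N, N⁆), ∀ b ∈ N.map (QuotientGroup.mk' ⁅N, N⁆),
      a * b = b * a := by
    rintro _ ⟨a, ha, rfl⟩ _ ⟨b, hb, rfl⟩
    exact commutatorElement_eq_one_iff_mul_comm.mp
      ((QuotientGroup.eq_one_iff _).mpr (commutator_mem_commutator ha hb))
  obtain ⟨Q⟩ : Nonempty (Sylow q (G ⧸ ⁅N, N⁆)) := inferInstance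
  obtain ⟨R⟩ : Nonempty (Sylow r (G ⧸ ⁅N, N⁆)) := inferInstance
  have hQ : ∀ Q : Sylow q (G ⧸ ⁅N, N⁆), (Q : Subgroup _) ≤ N.map (QuotientGroup.mk' ⁅N, N⁆) :=
    sylow_le_of_normal (by rw [ix hBN]; exact h.not_dvd)
  haveI : (Q : Subgroup (G ⧸ ⁅N, N⁆)).Normal := by
    rw [← normalizer_eq_top_iff, eq_top_iff]
    exact fun g _ => Sylow.smul_eq_iff_mem_normalizer.mp (sylow_eq_of_le (le_trans
      (show _ ≤ centralizer ((Q : Subgroup (G ⧸ ⁅N, N⁆)) : Set _) from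
        fun a ha b hb => cm b (hQ _ hb) a (hQ _ ha)) (centralizer_le_normalizer _)))
  have key : ¬ (R : Subgroup (G ⧸ ⁅N, N⁆)) ≤ centralizer ((Q : Subgroup (G ⧸ ⁅N, N⁆)) : Set _) := by
    intro hle
    obtain ⟨g, hg, gN⟩ := SetLike.not_le_iff_exists.mp
      (fun e => not_dvd_index_of_le R e (by rwa [ix hBN]))
    obtain ⟨g, rfl⟩ := QuotientGroup.mk_surjective g
    obtain ⟨k, hk⟩ := h.relIndex_eq
    refine not_dvd_index_of_le (I := K.map (QuotientGroup.mk' ⁅N, N⁆)) Q (fun x hx => ?_) (by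
      rw [ix hBK, ← relIndex_mul_index h.lt.le, hk, pow_succ']
      exact (Dvd.intro _ rfl).mul_right _)
    obtain ⟨x, rfl⟩ := QuotientGroup.mk_surjective x
    exact (mm hBK).mpr (h.fpf g (mt (mm hBN).mpr gN) x ((mm hBN).mp (hQ _ hx))
      (hBK ((QuotientGroup.eq_one_iff _).mp
        (commutatorElement_eq_one_iff_mul_comm.mpr (hle hg _ hx).symm))))
  have hrq : r ≠ q := by rintro rfl; exact h.not_dvd hd
  have cop := IsPGroup.coprime_card_of_ne r q hrq _ _ R.2 Q.2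
  obtain ⟨v, hv, vp, vc⟩ : ∃ v ∈ (Q : Subgroup (G ⧸ ⁅N, N⁆)), (orderOf v).Prime ∧ v ∉ center _ := by
    by_contra hn
    push Not at hn
    exact key (H2.le_centralizer_of_prime_order ⟨⟨fun a b => Subtype.ext
      (cm _ (hQ _ a.2) _ (hQ _ b.2))⟩⟩ (by rw [normalizer_eq_top]; exact le_top) cop
      fun v hv vp => center_le_centralizer _ (hn v hv vp))
  obtain ⟨x, rfl⟩ := QuotientGroup.mk_surjective v
  have vq : orderOf (x : G ⧸ ⁅N, N⁆) = q := by
    obtain ⟨k, hk⟩ := Q.2 ⟨_, hv⟩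
    exact (Nat.prime_dvd_prime_iff_eq vp h.prime).mp (vp.dvd_of_dvd_pow
      (orderOf_dvd_of_pow_eq_one (congrArg Subtype.val hk)))
  have cq := (Nat.Prime.coprime_iff_not_dvd h.prime).mpr hq
  have xq : x ^ q ∈ ⁅N, N⁆ := (QuotientGroup.eq_one_iff _).mp (by
    rw [QuotientGroup.mk_pow, ← vq, pow_orderOf_eq_one])
  have yq : (x ^ Nat.card ↥⁅N, N⁆) ^ q = 1 := by
    rw [← pow_mul, mul_comm, pow_mul]
    exact congrArg Subtype.val (pow_card_eq_one' (x := (⟨_, xq⟩ : ↥⁅N, N⁆)))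
  have yc : ((x ^ Nat.card ↥⁅N, N⁆ : G) : G ⧸ ⁅N, N⁆) ∉ center _ := fun e => vc
    (zpowers_le_of_mem e (mem_zpowers_pow_iff.mpr (by rw [vq]; exact cq.symm)))
  have yN := pow_mem ((mm hBN).mp (hQ _ hv)) (Nat.card ↥⁅N, N⁆)
  generalize x ^ Nat.card ↥⁅N, N⁆ = y at yq yc yN
  have fpf : ∀ b ∈ ⁅N, N⁆, y * b = b * y → b = 1 := fun b hb e => by
    obtain ⟨n, -, e2⟩ := hc.conj_eq yN yc hb
    have e3 : (b * y) ^ q = 1 := by
      rw [← e2, commutatorElement_def, inv_mul_cancel_right, conj_pow, yq, mul_one, mul_inv_cancel]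
    rw [Commute.mul_pow e.symm, yq, mul_one] at e3
    exact orderOf_eq_one_iff.mp (Nat.eq_one_of_dvd_coprimes cq (orderOf_dvd_of_pow_eq_one e3)
      (orderOf_dvd_natCard _ hb))
  refine ⟨y, r, hr, ⟨hc, caseB_cyc h, yN, fpf⟩, hd, fun e => key ?_, nil_of_fpf (by
    rw [orderOf_eq_prime yq (by rintro rfl; exact yc (one_mem _))]; exact h.prime) fpf h0, h0⟩
  haveI := (Nat.card_eq_one_iff_unique.mp e).1
  haveI := R.normal_of_subsingleton
  rw [← commutator_eq_bot_iff_le_centralizer, eq_bot_iff, ← (disjoint_of_coprime_natCard cop).eq_bot]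
  exact commutator_le_inf _ _

end H64.Palfy
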