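import Mathlib
import Cfsg.Agent.Lib.Palfy.ND5
import Cfsg.Prelude.Def_DegreeGraph

/-! Groups without divisibility among non-linear degrees and disconnected degree graph. -/

set_option autoImplicit false
open Cfsg Subgroup
open scoped Pointwise commutatorElement ComplexConjugate

namespace H64.Palfy

/-- Reachability in the degree graph. -/
def Rch (G : Type*) [Group G] (a b : ℕ) : Prop :=
  ∃ ha hb, ((degreeGraph G).induce (degreePrimes G)).Reachable ⟨a, ha⟩ ⟨b, hb⟩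

variable {G : Type*} [Group G] [Finite G]

omit [Finite G] in
theorem rch_of_dvd {a b : ℕ} (ha : a.Prime) (hb : b.Prime) {χ : G → ℂ} (hχ : IsIrrCharacter G χ)
    (h1 : a ∣ charDegree χ) (h2 : b ∣ charDegree χ) : Rch G a b := by
  refine ⟨⟨ha, _, ⟨⟨χ, hχ⟩, rfl⟩, h1⟩, ⟨hb, _, ⟨⟨χ, hχ⟩, rfl⟩, h2⟩, ?_⟩
  by_cases e : a = b
  · subst e; rfl
  · exact SimpleGraph.Adj.reachable ⟨e, ha, hb, _, ⟨⟨χ, hχ⟩, rfl⟩,
      ((Nat.coprime_primes ha hb).mpr e).mul_dvd_of_dvd_of_dvd h1 h2⟩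

omit [Finite G] in
theorem Rch.trans {a b c : ℕ} (h1 : Rch G a b) (h2 : Rch G b c) : Rch G a c :=
  ⟨h1.1, h2.2.1, h1.2.2.trans h2.2.2⟩

omit [Finite G] in
theorem not_two {p : ℕ} (h : ∀ χ, IsIrrCharacter G χ → ∀ s, s.Prime → s ∣ charDegree χ → Rch G s p) :
    Nat.card ((degreeGraph G).induce (degreePrimes G)).ConnectedComponent ≠ 2 := by
  have : ((degreeGraph G).induce (degreePrimes G)).Preconnected := by
    rintro ⟨a, ha, _, ⟨χ, rfl⟩, h1⟩ ⟨b, hb, _, ⟨ψ, rfl⟩, h2⟩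
    exact (h _ χ.2 a ha h1).2.2.trans (h _ ψ.2 b hb h2).2.2.symm
  haveI := this.subsingleton_connectedComponent
  have := Finite.card_le_one_iff_subsingleton.mpr this
  omega

theorem three_degrees [Group.IsSolvable G] (hnd : ND G)
    (htwo : Nat.card ((degreeGraph G).induce (degreePrimes G)).ConnectedComponent = 2) :
    Nat.card ↥(charDegrees G) = 3 := by
  have n1 : ∀ {s n : ℕ}, s.Prime → s ∣ n → n ≠ 1 := fun hs hd e =>
    hs.one_lt.ne' (Nat.dvd_one.mp (e ▸ hd))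
  obtain ⟨K, hK, -⟩ := H87.exists_maxNA (L := (⊥ : Subgroup G)) inferInstance fun e =>
    not_two (p := 0) (fun χ hχ s hs hd => (n1 hs hd
      (H87.deg_eq_one_of_commutator_le hχ (e.trans bot_le))).elim) htwo
  haveI := hK.normal
  rcases hK.cases_of_isSolvable with ⟨p, Z, τ, hA⟩ | ⟨q, N, hB⟩
  · refine (not_two (p := p) (fun χ hχ s hs hd => rch_of_dvd hs hA.prime hχ hd ?_) htwo).elim
    by_contra hp
    obtain ⟨η, hη, e⟩ := hA.exists_deg_mul_of_not_dvd hχ hp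
    have := hnd χ η hχ hη (n1 hs hd) (e ▸ Dvd.intro_left _ rfl)
    have h1 := hA.one_lt
    have h2 := H87.deg_pos hχ
    nlinarith
  haveI := hB.normal
  obtain ⟨τ, hτ, -, dτ⟩ := hB.deg
  have f1 := hB.one_lt
  have a1 : ∀ ψ, IsIrrCharacter N ψ → charDegree ψ ≠ 1 → q ∣ charDegree ψ := fun ψ hψ h1 =>
    (hB.deg_or_dvd hψ).resolve_left fun ⟨χ, hχ, e⟩ => h1 (by
      have := hnd τ χ hτ hχ (by omega) (by rw [e, dτ]; exact Dvd.intro _ rfl)
      rw [e, dτ] at this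
      nlinarith)
  have nl : ∀ {χ ψ}, IsIrrCharacter G χ → IsIrrCharacter N ψ → H87.Over N χ ψ →
      ¬ ⁅N, N⁆ ≤ H6.charKer χ → charDegree ψ ≠ 1 := fun hχ hψ ho hk e =>
    hk (ho.commutator_le_charKer hχ hψ e)
  have a2 : ∀ χ, IsIrrCharacter G χ → ⁅N, N⁆ ≤ H6.charKer χ →
      charDegree χ = 1 ∨ charDegree χ = N.index := fun χ hχ hk => by
    obtain ⟨ψ, hψ, ho⟩ := H87.exists_under hχ N
    have := ho.deg_dvd_mul hχ hψ
    rw [H87.deg_eq_one_of_commutator_le hψ fun x hx => (H6.mem_charKer (H6.irr_isCharacter hψ)).mpr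
      (ho.apply_eq_of_mem_ker (H6.irr_isCharacter hχ) hψ ((H6.mem_charKer
        (H6.irr_isCharacter hχ)).mp (hk (mem_commutator_iff.mp hx)))), mul_one, ← dτ] at this
    exact or_iff_not_imp_left.mpr fun h1 => dτ ▸ hnd χ τ hχ hτ h1 this
  have a3 : ∀ χ, IsIrrCharacter G χ → ¬ ⁅N, N⁆ ≤ H6.charKer χ → q ∣ charDegree χ := fun χ hχ hk => by
    obtain ⟨ψ, hψ, ho⟩ := H87.exists_under hχ N
    exact (a1 ψ hψ (nl hχ hψ ho hk)).trans (ho.deg_dvd hχ hψ)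
  have a4 : ∀ {r}, r.Prime → r ∣ N.index → ∀ χ, IsIrrCharacter G χ → ⁅N, N⁆ ≤ H6.charKer χ →
      ∀ s, s.Prime → s ∣ charDegree χ → Rch G s r := fun hr hd χ hχ hk s hs hs' =>
    rch_of_dvd hs hr hχ hs' (((a2 χ hχ hk).resolve_left (n1 hs hs')) ▸ hd)
  have hc : HC N := fun χ₀ h0 k0 => by
    by_contra hn
    obtain ⟨r, hr, d1, d2⟩ := Nat.Prime.not_coprime_iff_dvd.mp hn
    refine not_two (p := q) (fun χ hχ s hs hd => ?_) htwo
    by_cases hk : ⁅N, N⁆ ≤ H6.charKer χ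
    · exact (a4 hr d2 χ hχ hk s hs hd).trans (rch_of_dvd hr hB.prime h0 d1 (a3 _ h0 k0))
    · exact rch_of_dvd hs hB.prime hχ hd (a3 χ hχ hk)
  have h0 : ⁅N, N⁆ ≠ ⊥ := fun e => by
    obtain ⟨r, hr, hd⟩ := Nat.exists_prime_and_dvd f1.ne'
    exact not_two (p := r) (fun χ hχ => a4 hr hd χ hχ (e.le.trans bot_le)) htwo
  have ex : ∀ {χ ψ}, IsIrrCharacter G χ → IsIrrCharacter N ψ → H87.Over N χ ψ → charDegree ψ ≠ 1 →
      charDegree χ = charDegree ψ := fun hχ hψ ho h1 => by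
    rw [ho.deg_eq_of_isCyclic (caseB_cyc hB) hψ hχ, hc.inertia_top hψ h1, index_top, one_mul]
  obtain ⟨d, hd⟩ : ∃ d, ∀ χ, IsIrrCharacter G χ → ¬ ⁅N, N⁆ ≤ H6.charKer χ → charDegree χ = d := by
    obtain ⟨A, hA, cA, iA, -⟩ := H87.exists_pi_complement a1
    by_cases hle : commutator N ≤ A
    · obtain ⟨y, r, hr, h⟩ := caseB_cr hB hc (fun e => by
        rw [← map_subtype_commutator, card_map_of_injective (subtype_injective N)] at e
        exact hB.prime.one_lt.ne' (Nat.Coprime.eq_one_of_dvd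
          (cA.coprime_dvd_left (e.trans (card_dvd_of_le hle))) dvd_rfl)) h0
      haveI := Fact.mk hr
      exact h.single hnd
    have nd : ND N := fun ψ η hψ hη h1 h2 => by
      obtain ⟨χ, hχ, ho⟩ := H87.exists_over hψ
      obtain ⟨χ', hχ', ho'⟩ := H87.exists_over hη
      have e := ex hχ hψ ho h1
      have e' := ex hχ' hη ho' fun e => h1 (Nat.dvd_one.mp (e ▸ h2))
      rw [← e, ← e'] at h2 ⊢
      exact hnd χ χ' hχ hχ' (e ▸ h1) h2
    obtain ⟨-, d, -, hd⟩ := nd.single hB.prime cA (Nat.eq_prime_pow_of_unique_prime_dvd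
      index_ne_zero_of_finite fun {s} hs h => (Nat.prime_dvd_prime_iff_eq hs hB.prime).mp
        (iA s hs h)) hle
    refine ⟨d, fun χ hχ hk => ?_⟩
    obtain ⟨ψ, hψ, ho⟩ := H87.exists_under hχ N
    rw [ex hχ hψ ho (nl hχ hψ ho hk)]
    exact (hd ψ hψ).resolve_left (nl hχ hψ ho hk)
  obtain ⟨χ₀, k0, k1⟩ := H87.exists_irr_not_le_charKer h0
  have qd : q ∣ d := hd _ k0 k1 ▸ a3 _ k0 k1
  have : charDegrees G = {1, N.index, d} := by
    ext n
    simp only [Set.mem_insert_iff, Set.mem_singleton_iff]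
    constructor
    · rintro ⟨χ, rfl⟩
      by_cases hk : ⁅N, N⁆ ≤ H6.charKer (χ : G → ℂ)
      · exact (a2 _ χ.2 hk).imp_right Or.inl
      · exact Or.inr (Or.inr (hd _ χ.2 hk))
    · rintro (rfl | rfl | rfl)
      · exact ⟨⟨_, H6.isIrrCharacter_hom (1 : G →* ℂˣ)⟩, H87.deg_hom 1⟩
      · exact ⟨⟨τ, hτ⟩, dτ⟩
      · exact ⟨⟨χ₀, k0⟩, hd _ k0 k1⟩
  rw [this, Nat.card_coe_set_eq]
  exact Set.ncard_eq_three.mpr ⟨_, _, _, f1.ne, (n1 hB.prime qd).symm,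
    fun e => hB.not_dvd (e ▸ qd), rfl⟩

end H64.Palfy
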