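import Mathlib
import Cfsg.Agent.Lib.Palfy.N1c

/-! Two primes with the normal Sylow condition on a faithful irreducible module are adjacent. -/

set_option autoImplicit false
open Cfsg Subgroup
open scoped Pointwise commutatorElement

namespace H64.Palfy

/-- `n` divides an irreducible character degree. -/
def Rho (G : Type*) [Group G] (n : ℕ) : Prop := ∃ χ, IsIrrCharacter G χ ∧ n ∣ charDegree χ

variable {H : Type*} [Group H] [Finite H]

theorem rho_of_inertia {N : Subgroup H} [N.Normal] {θ : N → ℂ} (hθ : IsIrrCharacter N θ) {n : ℕ}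
    (h : n ∣ (H7.inertia θ).index * charDegree θ) : Rho H n := by
  obtain ⟨χ, hχ, ho⟩ := H87.exists_over hθ
  exact ⟨χ, hχ, h.trans (ho.index_inertia_mul_dvd hχ hθ)⟩

theorem rho_of_st {N : Subgroup H} [N.Normal] (μ : N →* ℂˣ) {n : ℕ}
    (h : n ∣ (st (dual N) μ).index) : Rho H n :=
  rho_of_inertia (H6.isIrrCharacter_hom μ) (Dvd.dvd.mul_right (st_dual N μ ▸ h) _)

omit [Finite H] in
theorem Rho.of_surjective {K : Type*} [Group K] (f : H →* K) (hf : Function.Surjective f) {n : ℕ}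
    (h : Rho K n) : Rho H n := by
  obtain ⟨χ, hχ, hd⟩ := h
  exact ⟨_, H6.isIrrCharacter_comp_surjective f hf hχ, by rwa [H87.deg_comp]⟩

theorem rho_prod {A B : Subgroup H} [hA : A.Normal] [hB : B.Normal] (hAB : A ⊓ B = ⊥)
    (α : A →* ℂˣ) (β : B →* ℂˣ) : Rho H (st (dual A) α ⊓ st (dual B) β).index := by
  have hd : Disjoint A B := disjoint_iff.mpr hAB
  have hc : ∀ (a : A) (b : B), Commute (A.subtype a) (B.subtype b) := fun a b =>
    Subgroup.commute_of_normal_of_disjoint A B hA hB hd a b a.2 b.2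
  let e := A.subtype.noncommCoprod B.subtype hc
  have he : Function.Injective e := by
    rw [MonoidHom.noncommCoprod_injective]
    exact ⟨A.subtype_injective, B.subtype_injective, by simpa using hd⟩
  have hr : e.range = A ⊔ B := by rw [MonoidHom.noncommCoprod_range]; simp
  haveI : e.range.Normal := hr ▸ inferInstance
  let γ : e.range →* ℂˣ := (α.coprod β).comp (MonoidHom.ofInjective he).symm.toMonoidHom
  have hγ : ∀ (a : A) (b : B) (x : e.range), (x : H) = a * b → γ x = α a * β b := by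
    intro a b x hx
    have : x = MonoidHom.ofInjective he (a, b) := Subtype.ext hx
    rw [this]
    simp [γ]
  refine rho_of_st γ (Subgroup.index_dvd_of_le fun g hg => ?_)
  rw [mem_st_dualA] at hg
  refine ⟨mem_st_dualA.mpr fun a => ?_, mem_st_dualA.mpr fun b => ?_⟩
  · have := hg ⟨a, hr.ge (mem_sup_left a.2)⟩
    rwa [hγ (MulAut.conjNormal g a) 1 _ (by simp), hγ a 1 _ (by simp), map_one, mul_one,
      mul_one] at this
  · have := hg ⟨b, hr.ge (mem_sup_right b.2)⟩
    rwa [hγ 1 (MulAut.conjNormal g b) _ (by simp), hγ 1 b _ (by simp), map_one, one_mul,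
      one_mul] at this

variable {W : Type*} [CommGroup W] [Finite W] [Nontrivial W] {φ : H →* MulAut W}

theorem n1 [Group.IsSolvable H] (hi : Function.Injective φ) (hI : Irr φ) {q : ℕ}
    [hq : Fact q.Prime] (hN : NQ φ q ⊤) (hd : q ∣ Nat.card H)
    (h1 : ∀ (t : ℕ) [Fact t.Prime] (A : Subgroup H) [A.Normal], IsPGroup t A →
      (∀ a ∈ A, ∀ b ∈ A, a * b = b * a) → IsCyclic A) :
    ∃ (D : Subgroup H) (_ : D.Normal) (μ : D →* ℂˣ), q ∣ (st (dual D) μ).index ∧
      ((q = 3 ∧ IsPGroup 2 D) ∨ (∃ t : ℕ, t.Prime ∧ t ≠ 2 ∧ Nat.card D = t ∧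
        st (dual D) μ = centralizer (D : Set H))) := by
  obtain ⟨t, D, ht, h⟩ := exists_md hd (hN.pCore_eq_bot hi hI)
  haveI : Fact t.Prime := ⟨ht⟩
  haveI := h.normal
  by_cases hna : D ≤ centralizer (D : Set H)
  · haveI := h1 t D h.pg fun a ha b hb => hna hb a ha
    obtain ⟨hc, h2⟩ := h.card_of_cyclic
    obtain ⟨g, hg⟩ := Subgroup.ne_bot_iff_exists_ne_one.mp h.ne_bot
    obtain ⟨μ, -, hμ⟩ := H87.exists_hom_trivial_ne_one (G := D) ⊥ (by
      rw [commutator_def, commutator_le]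
      exact fun a _ b _ => commutatorElement_eq_one_iff_mul_comm.mpr
        (Subtype.ext (hna b.2 a a.2))) (g := g) hg
    haveI : Fact (Nat.card D).Prime := ⟨hc ▸ ht⟩
    have hk : Function.Injective μ := by
      rw [← MonoidHom.ker_eq_bot_iff]
      exact μ.ker.eq_bot_or_eq_top_of_prime_card.resolve_right
        fun e => hμ (e ▸ Subgroup.mem_top g : g ∈ μ.ker)
    have e : st (dual D) μ = centralizer (D : Set H) := by
      ext x
      rw [mem_st_dualA]
      refine ⟨fun h d hd => ?_, fun h d => congrArg μ (Subtype.ext ?_)⟩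
      · exact (mul_inv_eq_iff_eq_mul.mp (congrArg Subtype.val (hk (h ⟨d, hd⟩)))).symm
      · exact mul_inv_eq_iff_eq_mul.mpr (h d d.2).symm
    refine ⟨D, inferInstance, μ, ?_, Or.inr ⟨t, ht, h2, hc, e⟩⟩
    by_contra hnd
    obtain ⟨Q, hQ⟩ := exists_sylow_le hnd
    exact h.nc Q (e ▸ hQ)
  haveI := h1 t (D ⊓ centralizer (D : Set H)) (h.pg.to_le inf_le_left)
    fun a ha b hb => hb.2 a ha.1
  obtain ⟨rfl, Q, a, ha, k, hk, h4⟩ := h.four hi hI mul_comm hN hna
  have hz : ∀ x : D, x ∈ center D ↔ (x : H) ∈ D ⊓ centralizer (D : Set H) := fun x =>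
    ⟨fun h => ⟨x.2, fun y hy => congrArg Subtype.val (mem_center_iff.mp h ⟨y, hy⟩)⟩,
      fun h => mem_center_iff.mpr fun y => Subtype.ext (h.2 y y.2)⟩
  have hf : ∀ x : D, (x : H) ∈ centralizer ((Q : Subgroup H) : Set H) →
      x ∈ H2.fixSub (MulAut.conjNormal (H := D)) Q := fun x hx y hy =>
    Subtype.ext (mul_inv_eq_iff_eq_mul.mpr (hx y hy))
  obtain ⟨h3, μ, hμ⟩ := lemD (MulAut.conjNormal (H := D)) h.pg
    (fun x y => (hz _).mpr (h.comm_mem x.2 y.2)) (fun x y => Subtype.ext (h.comm_pow x.2 y.2))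
    (fun x y u v h1 h2 => Subtype.ext (congrArg
      (fun z : (D ⊓ centralizer (D : Set H) : Subgroup H) => (z : H)) (invol_unique
      (x := ⟨_, h.comm_mem x.2 y.2⟩) (y := ⟨_, h.comm_mem u.2 v.2⟩)
      (Subtype.ext (h.comm_pow x.2 y.2)) (Subtype.ext (h.comm_pow u.2 v.2))
      (fun e => h1 (Subtype.ext (congrArg
        (fun z : (D ⊓ centralizer (D : Set H) : Subgroup H) => (z : H)) e)))
      (fun e => h2 (Subtype.ext (congrArg
        (fun z : (D ⊓ centralizer (D : Set H) : Subgroup H) => (z : H)) e))))))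
    (fun N hN => by
      by_cases hle : N.map D.subtype ≤ D ⊓ centralizer (D : Set H)
      · exact Or.inl fun x hx => (hz x).mpr (hle ⟨x, hx, rfl⟩)
      · right
        have := h.chief ⟨by
          rintro _ ⟨x, hx, rfl⟩ g
          exact ⟨_, hN g x hx, rfl⟩⟩ (map_subtype_le N) hle
        rw [eq_top_iff]
        intro x _
        obtain ⟨y, hy, e⟩ := this.ge x.2
        exact (Subtype.ext e : y = x) ▸ hy)
    h.ne Q ⟨a, ha⟩ ⟨k, hk⟩ (fun d => by
      rcases h4 d d.2 with h | h | h | h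
      exacts [Or.inl (hf _ h), Or.inr (Or.inl (hf _ h)), Or.inr (Or.inr (Or.inl (hf _ h))),
        Or.inr (Or.inr (Or.inr (hf _ h)))])
    (by
      by_contra hc
      push Not at hc
      have := h.full (N := D ⊓ centralizer (D : Set H)) inferInstance inf_le_left Q
        (commutator_le.mpr fun d hd y hy => by
          have := (hz _).mp (hc y hy ⟨d, hd⟩⁻¹)
          rw [commutatorElement_def]
          simpa [mul_assoc] using this)
      exact hna (this.ge.trans inf_le_right))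
  exact ⟨D, inferInstance, μ, hμ, Or.inl ⟨h3, h.pg⟩⟩

theorem n2 [Group.IsSolvable H] (hi : Function.Injective φ) (hI : Irr φ) {q r : ℕ}
    [hq : Fact q.Prime] [hr : Fact r.Prime] (hqr : q ≠ r) (hNq : NQ φ q ⊤) (hNr : NQ φ r ⊤)
    (hdq : q ∣ Nat.card H) (hdr : r ∣ Nat.card H) : Rho H (q * r) := by
  have h1 : ∀ (t : ℕ) [Fact t.Prime] (A : Subgroup H) [A.Normal], IsPGroup t A →
      (∀ a ∈ A, ∀ b ∈ A, a * b = b * a) → IsCyclic A := by
    intro t _ A _ hA hc
    by_cases h2 : q = 2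
    · exact hNr.isCyclic hi hI (by omega) hdr A hA hc
    · exact hNq.isCyclic hi hI h2 hdq A hA hc
  have hcop : q.Coprime r := (Nat.coprime_primes hq.1 hr.1).mpr hqr
  obtain ⟨A, _, α, hα, hA⟩ := n1 hi hI hNq hdq h1
  obtain ⟨B, _, β, hβ, hB⟩ := n1 hi hI hNr hdr h1
  by_cases hAB : A ⊓ B = ⊥
  · obtain ⟨χ, hχ, hd⟩ := rho_prod hAB α β
    exact ⟨χ, hχ, (hcop.mul_dvd_of_dvd_of_dvd (hα.trans (Subgroup.index_dvd_of_le inf_le_left))
      (hβ.trans (Subgroup.index_dvd_of_le inf_le_right))).trans hd⟩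
  have c2 : ∀ {X Y : Subgroup H} {t : ℕ}, IsPGroup 2 X → t.Prime → t ≠ 2 → Nat.card Y = t →
      (Nat.card X).Coprime (Nat.card Y) := by
    intro X Y t hX ht h2 hY
    obtain ⟨k, hk⟩ := hX.exists_card_eq
    rw [hk, hY]
    exact Nat.Coprime.pow_left k ((Nat.coprime_primes Nat.prime_two ht).mpr h2.symm)
  rcases hA with ⟨rfl, hA⟩ | ⟨s, hs, hs2, hA, eA⟩ <;> rcases hB with ⟨rfl, hB⟩ | ⟨t, ht, ht2, hB, eB⟩
  · exact absurd rfl hqr
  · exact absurd (H2.inf_eq_bot_of_coprime_card (c2 hA ht ht2 hB)) hAB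
  · exact absurd (H2.inf_eq_bot_of_coprime_card (c2 hB hs hs2 hA).symm) hAB
  · have key : ∀ {X Y : Subgroup H}, (Nat.card X).Prime → X ⊓ Y ≠ ⊥ → X ≤ Y := by
      intro X Y hX h
      have hd := Subgroup.card_dvd_of_le (inf_le_left : X ⊓ Y ≤ X)
      rcases (Nat.dvd_prime hX).mp hd with h' | h'
      · exact absurd (Subgroup.card_eq_one.mp h') h
      · exact inf_eq_left.mp (Subgroup.eq_of_le_of_card_ge inf_le_left h'.ge)
    have e : A = B := le_antisymm (key (hA ▸ hs) hAB) (key (hB ▸ ht) (by rwa [inf_comm]))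
    subst e
    exact rho_of_st α (hcop.mul_dvd_of_dvd_of_dvd hα (by rwa [eA, ← eB]))

end H64.Palfy
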