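import Mathlib
import Cfsg.Agent.Lib.Palfy.N2
import Cfsg.Agent.Lib.Deg.Ito
import Cfsg.Agent.Lib.Core.Hall

/-! Normal abelian Sylow subgroups of inertia quotients. -/

set_option autoImplicit false
open Cfsg Subgroup
open scoped Pointwise commutatorElement

namespace H64.Palfy

variable {G : Type*} [Group G] [Finite G]

/-- `S/N` is an abelian Sylow `b`-subgroup of `G/N`, normal in `T/N`. -/
structure NS (N T : Subgroup G) (b : ℕ) (S : Subgroup G) : Prop where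
  le : N ≤ S
  le' : S ≤ T
  pw : ∀ x ∈ S, ∃ k, x ^ b ^ k ∈ N
  nd : ¬ b ∣ S.index
  nrm : T ≤ normalizer (S : Set G)
  cm : ∀ x ∈ S, ∀ y ∈ S, ⁅x, y⁆ ∈ N

theorem not_rho_of_comm {S : Subgroup G} [S.Normal] (hc : ∀ a ∈ S, ∀ b ∈ S, a * b = b * a) {b : ℕ}
    (h : ¬ b ∣ S.index) : ¬ Rho G b :=
  fun ⟨_, hχ, hd⟩ => h (hd.trans (H87.deg_dvd_index_of_comm S hc hχ))

theorem ito [Group.IsSolvable G] {b : ℕ} [Fact b.Prime] (h : ¬ Rho G b) (P : Sylow b G) :
    (P : Subgroup G).Normal ∧ ∀ x ∈ (P : Subgroup G), ∀ y ∈ (P : Subgroup G), x * y = y * x := by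
  have h' : ∀ χ, IsIrrCharacter G χ → ¬ b ∣ charDegree χ := fun χ h1 h2 => h ⟨χ, h1, h2⟩
  haveI := H87.sylow_normal_of_not_dvd_deg (H3.isPiSeparable_of_isSolvable _) h' P
  exact ⟨this, H87.comm_of_normal_of_not_dvd P.2 h'⟩

theorem lemK [Group.IsSolvable G] {N : Subgroup G} [N.Normal] {θ : N → ℂ}
    (hθ : IsIrrCharacter N θ) (hNT : N ≤ H7.inertia θ) {ψ : H7.inertia θ → ℂ}
    (hψ : IsIrrCharacter _ ψ) (hext : ∀ n : N, ψ ⟨n, hNT n.2⟩ = θ n) {a b : ℕ} [hb : Fact b.Prime]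
    (hab : a.Coprime b) (h : ¬ Rho G (a * b)) (ha : a ∣ (H7.inertia θ).index * charDegree θ) :
    ∃ S, NS N (H7.inertia θ) b S := by
  set T := H7.inertia θ with hT
  have h1 : ¬ b ∣ T.index := fun hd =>
    h (rho_of_inertia hθ (hab.mul_dvd_of_dvd_of_dvd ha (hd.mul_right _)))
  have h2 : ¬ Rho (T ⧸ N.subgroupOf T) b := by
    rintro ⟨β, hβ, hd⟩
    obtain ⟨χ, hχ, -, e⟩ := H87.exists_over_of_ext hNT hθ le_rfl hψ hext (H87.isIrr_infl _ hβ)
      (H87.le_charKer_infl _ β)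
    refine h ⟨χ, hχ, ?_⟩
    rw [e, H87.deg_infl, mul_right_comm]
    exact mul_dvd_mul ha hd
  obtain ⟨P⟩ : Nonempty (Sylow b (T ⧸ N.subgroupOf T)) := inferInstance
  obtain ⟨hP, hc⟩ := ito h2 P
  let π := QuotientGroup.mk' (N.subgroupOf T)
  refine ⟨((P : Subgroup _).comap π).map T.subtype, fun n hn => ⟨⟨n, hNT hn⟩, ?_, rfl⟩,
    map_subtype_le _, ?_, ?_, ?_, ?_⟩
  · have : π ⟨n, hNT hn⟩ = 1 := (QuotientGroup.eq_one_iff _).mpr hn
    show π _ ∈ (P : Subgroup _)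
    rw [this]; exact one_mem _
  · rintro _ ⟨x, hx, rfl⟩
    obtain ⟨k, hk⟩ := P.2 ⟨_, hx⟩
    have : π (x ^ b ^ k) = 1 := by rw [map_pow]; exact congrArg Subtype.val hk
    exact ⟨k, (QuotientGroup.eq_one_iff (N := N.subgroupOf T) _).mp this⟩
  · rw [Subgroup.index_map_subtype,
      Subgroup.index_comap_of_surjective _ (QuotientGroup.mk'_surjective _)]
    exact hb.1.not_dvd_mul P.not_dvd_index h1
  · haveI := hP.comap π
    have := Subgroup.le_normalizer_map (H := (P : Subgroup _).comap π) T.subtype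
    rwa [normalizer_eq_top, ← MonoidHom.range_eq_map, Subgroup.range_subtype] at this
  · rintro _ ⟨x, hx, rfl⟩ _ ⟨y, hy, rfl⟩
    have : π ⁅x, y⁆ = 1 := by
      rw [map_commutatorElement, commutatorElement_eq_one_iff_mul_comm]; exact hc _ hx _ hy
    exact (QuotientGroup.eq_one_iff (N := N.subgroupOf T) _).mp this

theorem NS.normal {N T S C : Subgroup G} [hN : N.Normal] [hC : C.Normal] {b : ℕ} (hb : b.Prime)
    (h : NS N T b S) (hNC : N ≤ C) (hCT : C ≤ T) (hd : ¬ b ∣ C.index) : S ≤ C ∧ S.Normal := by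
  have h1 : S ≤ C := fun x hx => by
    obtain ⟨k, hk⟩ := h.pw x hx
    exact mem_of_pow_mem hb (by rw [normalizer_eq_top]; trivial) (hNC hk) hd
  refine ⟨h1, ⟨fun x hx g => ?_⟩⟩
  obtain ⟨k, hk⟩ := h.pw x hx
  refine mem_of_pow_mem (k := k) hb (h.nrm (hCT (hC.conj_mem x (h1 hx) g))) ?_ h.nd
  rw [conj_pow]; exact h.le (hN.conj_mem _ hk g)

theorem NS.le_sup {N T S : Subgroup G} [S.Normal] {b : ℕ} [hb : Fact b.Prime] (h : NS N T b S)
    (R : Sylow b G) : S = N ⊔ R := by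
  have h1 : N ⊔ R ≤ S := sup_le h.le (sylow_le_of_normal h.nd R)
  refine le_antisymm (fun x hx => ?_) h1
  obtain ⟨k, hk⟩ := h.pw x hx
  exact mem_of_pow_mem hb.1 (H2.le_normalizer_of_commutator_le h1
    (commutator_le.mpr fun a ha c hc => mem_sup_left (h.cm a ha c hc)) hx) (mem_sup_left hk)
    (not_dvd_index_of_le R le_sup_right)

theorem NS.not_rho {N T S : Subgroup G} [S.Normal] {b : ℕ} [hb : Fact b.Prime] (h : NS N T b S)
    (R : Sylow b G) (h0 : (R : Subgroup G) ⊓ N = ⊥)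
    (hc : (R : Subgroup G) ≤ centralizer (N : Set G)) : ¬ Rho G b := by
  have hR := sylow_le_of_normal h.nd R
  have h1 : S ≤ normalizer ((R : Subgroup G) : Set G) := by
    rw [h.le_sup R]
    exact sup_le ((Subgroup.le_centralizer_iff.mp hc).trans (centralizer_le_normalizer _))
      le_normalizer
  have h2 : normalizer ((R : Subgroup G) : Set G) ⊔ S = ⊤ := Sylow.normalizer_sup_eq_top' R hR
  rw [sup_eq_left.mpr h1, normalizer_eq_top_iff] at h2
  refine not_rho_of_comm (fun x hx y hy => ?_) R.not_dvd_index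
  rw [← commutatorElement_eq_one_iff_mul_comm, ← Subgroup.mem_bot, ← h0]
  exact ⟨(commutator_le_left _ _ : ⁅(R : Subgroup G), (R : Subgroup G)⁆ ≤ R)
    (commutator_mem_commutator hx hy), h.cm x (hR hx) y (hR hy)⟩

theorem NS.transfer {K W : Type*} [Group K] [Finite K] [Group W] {π : G →* K}
    (hπ : Function.Surjective π) {φ : G →* MulAut W} {φ' : K →* MulAut W}
    (hφ : ∀ g, φ' (π g) = φ g) {N S : Subgroup G} (hN : N ≤ π.ker) {b : ℕ} [Fact b.Prime] {w : W}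
    (h : NS N (st φ w) b S) : ∃ R : Sylow b K, (R : Subgroup K) = S.map π ∧
      (R : Subgroup K) ≤ st φ' w ∧ st φ' w ≤ normalizer ((R : Subgroup K) : Set K) := by
  have h1 : IsPGroup b (S.map π) := by
    rintro ⟨_, x, hx, rfl⟩
    obtain ⟨k, hk⟩ := h.pw x hx
    exact ⟨k, Subtype.ext (by
      show (π x) ^ b ^ k = 1
      rw [← map_pow]; exact hN hk)⟩
  refine ⟨h1.toSylow fun hd => h.nd (hd.trans (S.index_map_dvd hπ)), rfl, ?_, fun y hy => ?_⟩
  · rintro _ ⟨x, hx, rfl⟩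
    rw [mem_st, hφ]; exact h.le' hx
  · obtain ⟨x, rfl⟩ := hπ y
    rw [mem_st, hφ] at hy
    exact Subgroup.le_normalizer_map π ⟨x, h.nrm hy, rfl⟩

theorem n2' [Group.IsSolvable G] {W : Type*} [CommGroup W] [Finite W] [Nontrivial W]
    {φ : G →* MulAut W} (hI : Irr φ) {N : Subgroup G} (hN : N ≤ φ.ker) {q r : ℕ}
    [hq : Fact q.Prime] [hr : Fact r.Prime] (hqr : q ≠ r)
    (h1 : ∀ w, w ≠ 1 → ∃ S, NS N (st φ w) q S) (h2 : ∀ w, w ≠ 1 → ∃ S, NS N (st φ w) r S)
    (hdq : q ∣ φ.ker.index) (hdr : r ∣ φ.ker.index) : Rho G (q * r) := by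
  have hπ := QuotientGroup.mk'_surjective φ.ker
  have hN' : N ≤ (QuotientGroup.mk' φ.ker).ker := by rwa [QuotientGroup.ker_mk']
  have hφ : ∀ g, QuotientGroup.kerLift φ (QuotientGroup.mk' φ.ker g) = φ g := fun g => rfl
  refine Rho.of_surjective _ hπ (n2 (QuotientGroup.kerLift_injective φ)
    (fun U hU => hI U fun g => hU (QuotientGroup.mk' φ.ker g)) hqr (fun w _ hw => ?_)
    (fun w _ hw => ?_) hdq hdr)
  · obtain ⟨S, hS⟩ := h1 w hw
    obtain ⟨R, -, h⟩ := hS.transfer hπ hφ hN'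
    exact ⟨R, h⟩
  · obtain ⟨S, hS⟩ := h2 w hw
    obtain ⟨R, -, h⟩ := hS.transfer hπ hφ hN'
    exact ⟨R, h⟩

theorem mem_of_forall_hom {L : Subgroup G} (hL : commutator G ≤ L) {x : G}
    (h : ∀ μ : G →* ℂˣ, (∀ y ∈ L, μ y = 1) → μ x = 1) : x ∈ L := by
  by_contra hx
  obtain ⟨μ, h1, h2⟩ := H87.exists_hom_trivial_ne_one L hL hx
  exact h2 (h μ h1)

omit [Finite G] in
theorem commutator_le_bot (hc : ∀ a b : G, a * b = b * a) : commutator G ≤ ⊥ := by
  rw [commutator_def, commutator_le]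
  exact fun a _ b _ => commutatorElement_eq_one_iff_mul_comm.mpr (hc a b)

theorem eq_of_forall_hom (hc : ∀ a b : G, a * b = b * a) {x y : G}
    (h : ∀ μ : G →* ℂˣ, μ x = μ y) : x = y := by
  rw [← mul_inv_eq_one, ← Subgroup.mem_bot]
  exact mem_of_forall_hom (commutator_le_bot hc) fun μ _ => by rw [map_mul, map_inv, h]; simp

theorem card_dual (hc : ∀ a b : G, a * b = b * a) : Nat.card (G →* ℂˣ) = Nat.card G := by
  have h := H87.card_hom_trivial ⊥ (commutator_le_bot hc)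
  rw [Subgroup.index_bot] at h
  rw [← h]
  exact (Nat.card_congr (Equiv.subtypeUnivEquiv fun μ x hx => by
    rw [Subgroup.mem_bot.mp hx, map_one])).symm

theorem finite_dual : Finite (G →* ℂˣ) := by
  have h := H87.card_hom_trivial (commutator G) le_rfl
  have : Finite {lam : G →* ℂˣ // ∀ x ∈ commutator G, lam x = 1} :=
    Nat.finite_of_card_ne_zero (h ▸ Subgroup.index_ne_zero_of_finite)
  exact Finite.of_equiv {lam : G →* ℂˣ // ∀ x ∈ commutator G, lam x = 1}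
    (Equiv.subtypeUnivEquiv fun μ x hx => Abelianization.commutator_subset_ker μ hx)

theorem ker_dual {M : Subgroup G} [M.Normal] (hc : ∀ a ∈ M, ∀ b ∈ M, a * b = b * a) :
    (dual M).ker = centralizer (M : Set G) := by
  ext g
  constructor
  · intro h m hm
    have := eq_of_forall_hom (G := M) (fun a b => Subtype.ext (hc a a.2 b b.2))
      (x := MulAut.conjNormal g ⟨m, hm⟩) (y := ⟨m, hm⟩) fun μ =>
      mem_st_dualA.mp (show dual M g μ = μ by rw [MonoidHom.mem_ker.mp h]; rfl) _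
    exact (mul_inv_eq_iff_eq_mul.mp (congrArg Subtype.val this)).symm
  · intro h
    rw [MonoidHom.mem_ker]
    refine MulEquiv.ext fun μ => mem_st_dualA.mpr fun m => congrArg μ (Subtype.ext ?_)
    exact mul_inv_eq_iff_eq_mul.mpr (h m m.2).symm

theorem irr_dual {M : Subgroup G} [M.Normal] (hM : H3.IsMinNormal M)
    (hc : ∀ a ∈ M, ∀ b ∈ M, a * b = b * a) : Irr (W := M →* ℂˣ) (dual M) := by
  intro U hU
  haveI := finite_dual (G := M)
  haveI := finite_dual (G := U)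
  let K : Subgroup M := ⨅ μ : U, (μ : M →* ℂˣ).ker
  have hK : ∀ m, m ∈ K ↔ ∀ μ ∈ U, μ m = 1 := fun m => by
    simp only [K, mem_iInf, MonoidHom.mem_ker, Subtype.forall]
  haveI : (K.map M.subtype).Normal := ⟨by
    rintro _ ⟨m, hm, rfl⟩ g
    refine ⟨MulAut.conjNormal g m, (hK _).mpr fun μ hμ => ?_, rfl⟩
    have := (hK m).mp hm _ (hU g⁻¹ μ hμ)
    rwa [dualA_apply, inv_inv] at this⟩
  rcases hM.inf_eq_bot_or_le (K.map M.subtype) with h | h
  · right
    let f : M → (U →* ℂˣ) := fun m => MonoidHom.mk' (fun μ => (μ : M →* ℂˣ) m) fun _ _ => rfl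
    have hf : Function.Injective f := by
      intro a b e
      have : a * b⁻¹ ∈ K := (hK _).mpr fun μ hμ => by
        have : μ a = μ b := DFunLike.congr_fun e ⟨μ, hμ⟩
        rw [map_mul, map_inv, this]; simp
      have h2 : ((a * b⁻¹ : M) : G) ∈ M ⊓ K.map M.subtype := ⟨(a * b⁻¹).2, _, this, rfl⟩
      rw [h, Subgroup.mem_bot] at h2
      exact mul_inv_eq_one.mp (Subtype.ext h2)
    have h3 := Nat.card_le_card_of_injective f hf
    rw [card_dual (G := U) fun a b => mul_comm a b,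
      ← card_dual (G := M) fun a b => Subtype.ext (hc a a.2 b b.2)] at h3
    exact Subgroup.eq_top_of_le_card U h3
  · left
    rw [eq_bot_iff]
    intro μ hμ
    refine MonoidHom.ext fun m => ?_
    obtain ⟨y, hy, e⟩ := h m.2
    exact (Subtype.ext e : y = m) ▸ (hK y).mp hy μ hμ

theorem nontrivial_dual {M : Subgroup G} (h0 : M ≠ ⊥) (hc : ∀ a ∈ M, ∀ b ∈ M, a * b = b * a) :
    Nontrivial (M →* ℂˣ) := by
  obtain ⟨g, hg⟩ := Subgroup.ne_bot_iff_exists_ne_one.mp h0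
  by_contra h
  rw [not_nontrivial_iff_subsingleton] at h
  exact hg (eq_of_forall_hom (G := M) (fun a b => Subtype.ext (hc a a.2 b b.2)) fun μ => by
    rw [Subsingleton.elim μ 1]; rfl)

end H64.Palfy
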