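import Mathlib
import Cfsg.Agent.Lib.Palfy.K

/-! The case of a complemented minimal normal subgroup. -/

set_option autoImplicit false
open Cfsg Subgroup
open scoped Pointwise commutatorElement

namespace H64.Palfy

variable {G : Type*} [Group G] [Finite G]

omit [Finite G] in
theorem le_st_dual (M : Subgroup G) [M.Normal] (μ : M →* ℂˣ) : M ≤ st (dual M) μ :=
  fun g hg => mem_st_dualA.mpr fun x => by
    have : MulAut.conjNormal g x = ⟨g, hg⟩ * x * (⟨g, hg⟩ : M)⁻¹ := rfl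
    rw [this, map_mul, map_mul, map_inv, mul_inv_cancel_comm]

omit [Finite G] in
theorem map_eq_one_of_commutator {M X : Subgroup G} [M.Normal] {μ : M →* ℂˣ}
    (h : X ≤ st (dual M) μ) {n : M} (hn : (n : G) ∈ ⁅M, X⁆) : μ n = 1 := by
  have : ⁅M, X⁆ ≤ μ.ker.map M.subtype := commutator_le.mpr fun m hm y hy => by
    refine ⟨⟨m, hm⟩ * MulAut.conjNormal y (⟨m, hm⟩ : M)⁻¹, ?_, ?_⟩
    · show μ _ = 1
      rw [map_mul, mem_st_dualA.mp (h hy), map_inv, mul_inv_cancel]
    · simp [commutatorElement_def, mul_assoc]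
  obtain ⟨y, hy, e⟩ := this hn
  exact (Subtype.ext e : y = n) ▸ hy

omit [Finite G] in
theorem ext_of_compl {M H : Subgroup G} [hM : M.Normal] (h1 : M ⊔ H = ⊤) (h2 : M ⊓ H = ⊥)
    (μ : M →* ℂˣ) {T : Subgroup G} (hMT : M ≤ T) (hT : T ≤ st (dual M) μ) :
    ∃ F : T →* ℂˣ, ∀ n : M, F ⟨n, hMT n.2⟩ = μ n := by
  have hd : ∀ g : G, ∃ m : M, (m : G)⁻¹ * g ∈ H := fun g => by
    obtain ⟨m, hm, h, hh, rfl⟩ := Subgroup.mem_sup_of_normal_left.mp (h1.ge (mem_top g))
    exact ⟨⟨m, hm⟩, by simpa using hh⟩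
  choose f hf using hd
  have hu : ∀ (g : G) (m : M), (m : G)⁻¹ * g ∈ H → f g = m := fun g m hm => by
    have : ((m⁻¹ * f g : M) : G) ∈ M ⊓ H := ⟨(m⁻¹ * f g).2, by
      have := H.mul_mem hm (H.inv_mem (hf g))
      simpa [mul_assoc] using this⟩
    rw [h2, Subgroup.mem_bot] at this
    exact (inv_mul_eq_one.mp (Subtype.ext this)).symm
  refine ⟨MonoidHom.mk' (fun g => μ (f g)) fun a b => ?_, fun n => ?_⟩
  · have := hu (a * b) (f a * MulAut.conjNormal ((f a : G)⁻¹ * a) (f b)) (by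
      have := H.mul_mem (hf a) (hf b)
      simpa [mul_assoc] using this)
    rw [Subgroup.coe_mul, this, map_mul,
      mem_st_dualA.mp (hT (T.mul_mem (T.inv_mem (hMT (f a).2)) a.2))]
  · exact congrArg μ (hu n n (by simp))

theorem case1 [Group.IsSolvable G] {M : Subgroup G} [M.Normal] (hM : H3.IsMinNormal M)
    {p q r : ℕ} [hp : Fact p.Prime] [hq : Fact q.Prime] [hr : Fact r.Prime] (hpq : p ≠ q)
    (hpr : p ≠ r) (hqr : q ≠ r) (P : Sylow p G) [hn : (M ⊔ P : Subgroup G).Normal]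
    (hP : ¬ (P : Subgroup G).Normal) (h1 : ¬ Rho G (p * q)) (h2 : ¬ Rho G (p * r))
    (rq : Rho G q) (rr : Rho G r) : Rho G (q * r) := by
  have hc : ∀ a ∈ M, ∀ b ∈ M, a * b = b * a := fun a ha b hb =>
    congrArg Subtype.val ((hM.isMulCommutative inferInstance).1.1 ⟨a, ha⟩ ⟨b, hb⟩)
  set H := normalizer ((P : Subgroup G) : Set G) with hH
  have hs : M ⊔ H = ⊤ := by
    have h : H ⊔ (M ⊔ P) = ⊤ := Sylow.normalizer_sup_eq_top' P le_sup_right
    rw [eq_top_iff, ← h]
    exact sup_le le_sup_right (sup_le le_sup_left (le_normalizer.trans le_sup_right))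
  have hMH : ¬ M ≤ H := fun h => hP (normalizer_eq_top_iff.mp (by rwa [sup_eq_right.mpr h] at hs))
  have hi : M ⊓ H = ⊥ := by
    haveI : (M ⊓ H).Normal := by
      rw [← normalizer_eq_top_iff, eq_top_iff, ← hs]
      refine sup_le (le_trans ?_ (centralizer_le_normalizer _))
        (H2.le_normalizer_inf (by rw [normalizer_eq_top]; exact le_top) le_normalizer)
      exact fun m hm x hx => hc x hx.1 m hm
    rcases hM.inf_eq_bot_or_le (M ⊓ H) with h | h
    · rwa [← inf_assoc, inf_idem] at h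
    · exact absurd (h.trans inf_le_right) hMH
  have hcm : M ≤ ⁅M, M ⊔ P⁆ := by
    refine (hM.inf_eq_bot_or_le _).resolve_left fun h => hMH ?_
    rw [inf_eq_right.mpr (commutator_le_left _ _), commutator_eq_bot_iff_le_centralizer] at h
    exact h.trans ((centralizer_le (le_sup_right : (P : Subgroup G) ≤ M ⊔ P)).trans
      (centralizer_le_normalizer _))
  have hpd : ∀ μ : M →* ℂˣ, μ ≠ 1 → p ∣ (st (dual M) μ).index := by
    intro μ hμ
    by_contra hd
    have := le_of_normal (S := M ⊔ P) (le_st_dual M μ) (fun x hx => by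
      obtain ⟨m, hm, y, hy, rfl⟩ := Subgroup.mem_sup_of_normal_left.mp hx
      obtain ⟨k, hk⟩ := P.2 ⟨y, hy⟩
      have hk' : y ^ p ^ k = 1 := congrArg Subtype.val hk
      refine ⟨k, (QuotientGroup.eq_one_iff _).mp ?_⟩
      rw [QuotientGroup.mk_pow, QuotientGroup.mk_mul, (QuotientGroup.eq_one_iff m).mpr hm,
        one_mul, ← QuotientGroup.mk_pow, hk', QuotientGroup.mk_one]) hd
    exact hμ (MonoidHom.ext fun n => map_eq_one_of_commutator this (hcm n.2))
  have ns : ∀ (b : ℕ) [Fact b.Prime], p.Coprime b → ¬ Rho G (p * b) →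
      ∀ μ : M →* ℂˣ, μ ≠ 1 → ∃ S, NS M (st (dual M) μ) b S := by
    intro b _ hb h μ hμ
    have e := st_dual M μ
    obtain ⟨F, hF⟩ := ext_of_compl hs hi μ (e ▸ le_st_dual M μ) e.ge
    rw [e]
    exact lemK (H6.isIrrCharacter_hom μ) (e ▸ le_st_dual M μ) (H6.isIrrCharacter_hom F)
      (fun n => congrArg Units.val (hF n)) hb h (Dvd.dvd.mul_right (e ▸ hpd μ hμ) _)
  have nq := ns q ((Nat.coprime_primes hp.1 hq.1).mpr hpq) h1
  have nr := ns r ((Nat.coprime_primes hp.1 hr.1).mpr hpr) h2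
  haveI := finite_dual (G := M)
  haveI := nontrivial_dual hM.ne_bot hc
  have hk := ker_dual hc
  have key : ∀ (b : ℕ), b.Prime → Rho G b →
      (∀ μ : M →* ℂˣ, μ ≠ 1 → ∃ S, NS M (st (dual M) μ) b S) → b ∣ (dual M).ker.index := by
    intro b hb rb h
    by_contra hd
    obtain ⟨μ, hμ⟩ := exists_ne (1 : M →* ℂˣ)
    obtain ⟨S, hS⟩ := h μ hμ
    obtain ⟨hSC, _⟩ := hS.normal (C := (dual M).ker) hb (hk ▸ fun m hm x hx => hc x hx m hm)
      (fun g hg => by rw [mem_st, MonoidHom.mem_ker.mp hg]; rfl) hd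
    rw [hk] at hSC
    refine not_rho_of_comm (fun x hx y hy => ?_) hS.nd rb
    obtain ⟨m, hm, u, hu, rfl⟩ := Subgroup.mem_sup_of_normal_left.mp (hs.ge (mem_top x))
    obtain ⟨n, hn, v, hv, rfl⟩ := Subgroup.mem_sup_of_normal_left.mp (hs.ge (mem_top y))
    have hu' : u ∈ S := (S.mul_mem_cancel_left (hS.le hm)).mp hx
    have hv' : v ∈ S := (S.mul_mem_cancel_left (hS.le hn)).mp hy
    have e : u * v = v * u := by
      rw [← commutatorElement_eq_one_iff_mul_comm, ← Subgroup.mem_bot, ← hi]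
      exact ⟨hS.cm u hu' v hv', H2.commutator_le_of_le_normalizer le_normalizer
        (commutator_mem_commutator hu hv)⟩
    exact Commute.mul_left (hSC hy m hm) (Commute.mul_right (hSC hu' n hn).symm e)
  exact n2' (irr_dual hM hc) (hk ▸ fun m hm x hx => hc x hx m hm) hqr nq nr (key q hq.1 rq nq)
    (key r hr.1 rr nr)

end H64.Palfy
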