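import Mathlib
import Cfsg.Agent.Lib.Palfy.C1
import Cfsg.Agent.Lib.Char.ExtDeg
import Cfsg.Agent.S4450

/-! The case of a normal Sylow subgroup: characters. -/

set_option autoImplicit false
open Cfsg Subgroup
open scoped Pointwise commutatorElement

namespace H64.Palfy

variable {G : Type*} [Group G] [Finite G]

/-- A normal Sylow subgroup whose derived group is minimal normal. -/
structure C2 (p : ℕ) (P M : Subgroup G) : Prop where
  pg : IsPGroup p P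
  nd : ¬ p ∣ P.index
  min : H3.IsMinNormal M
  der : M = ⁅P, P⁆
  cen : M ≤ centralizer (P : Set G)

theorem ne_zero_of_commutator {θ : G → ℂ} (hθ : IsIrrCharacter G θ) {x : G}
    (h : ∀ y : G, θ ⁅y, x⁆ = θ 1) : θ x ≠ 0 := by
  haveI := Fintype.ofFinite G
  intro h0
  have h1 := H87.sum_conj_mul hθ x x⁻¹
  have h2 : ∀ y, θ (y * x * y⁻¹ * x⁻¹) = θ 1 := h
  simp only [h2, h0, Finset.sum_const, Finset.card_univ, nsmul_eq_mul, mul_zero, zero_mul,
    zero_div, mul_eq_zero, Nat.cast_eq_zero, Fintype.card_ne_zero, false_or] at h1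
  rw [← H87.irr_deg_cast hθ, Nat.cast_eq_zero] at h1
  exact H87.deg_ne_zero hθ h1

namespace C2
variable {p : ℕ} [hp : Fact p.Prime] {P M : Subgroup G} [hP : P.Normal] [hM : M.Normal]
  (h : C2 p P M)
include h

omit [Finite G] hp hM in
theorem le : M ≤ P := h.der ▸ commutator_le_left _ _

omit [Finite G] hp hM in
theorem comm : ∀ a ∈ M, ∀ b ∈ M, a * b = b * a := fun a ha _ hb => h.cen hb a (h.le ha)

omit [Finite G] hp hM hP in
theorem cmem {x y : G} (hx : x ∈ P) (hy : y ∈ P) : ⁅x, y⁆ ∈ M :=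
  h.der ▸ commutator_mem_commutator hx hy

omit [Finite G] hp hM hP in
theorem mem_commutator {x : P} : x ∈ commutator P ↔ (x : G) ∈ M := by
  rw [h.der, ← Subgroup.map_subtype_commutator]
  exact ⟨fun hx => ⟨x, hx, rfl⟩, fun ⟨y, hy, e⟩ => (Subtype.ext e : y = x) ▸ hy⟩

omit hM hP in
theorem cop {n : ℕ} (hn : n ∣ P.index) {X : Subgroup G} (hX : X ≤ P) {m : ℕ}
    (hm : m ∣ Nat.card X) : n.Coprime m := by
  obtain ⟨k, hk⟩ := (h.pg.to_le hX).exists_card_eq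
  exact Nat.Coprime.coprime_dvd_left hn (Nat.Coprime.coprime_dvd_right hm (hk ▸
    (Nat.Coprime.pow_left k ((Nat.Prime.coprime_iff_not_dvd hp.1).mpr h.nd)).symm))

omit hM in
theorem ns [Group.IsSolvable G] {θ : P → ℂ} (hθ : IsIrrCharacter P θ) {a b : ℕ} [Fact b.Prime]
    (hab : a.Coprime b) (hn : ¬ Rho G (a * b)) (ha : a ∣ (H7.inertia θ).index * charDegree θ) :
    ∃ S, NS P (H7.inertia θ) b S := by
  have hle : P ≤ H7.inertia θ := H7.le_inertia (H6.irr_isClassFunction hθ)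
  obtain ⟨ψ, hψ, he⟩ := H31.extends_le_of_coprime hle hθ le_rfl
    (h.cop (Subgroup.relIndex_dvd_index_of_le hle) le_rfl dvd_rfl)
  exact lemK hθ hle hψ he hab hn ha

theorem above [Group.IsSolvable G] {μ : M →* ℂˣ} (hμ : μ ≠ 1) :
    ∃ θ : P → ℂ, IsIrrCharacter P θ ∧ p ∣ charDegree θ ∧ H7.inertia θ = st (dual M) μ ∧
      ∀ m : M, θ ⟨m, h.le m.2⟩ = θ 1 * μ m := by
  classical
  set T := st (dual M) μ with hT
  have hPT : P ≤ T := fun g hg => mem_st_dualA.mpr fun m => congrArg μ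
    (Subtype.ext (mul_inv_eq_iff_eq_mul.mpr (h.cen m.2 g hg)))
  have hMT := h.le.trans hPT
  haveI := Fintype.ofFinite T
  haveI := Fintype.ofFinite (P.subgroupOf T)
  haveI := Fintype.ofFinite (M.subgroupOf T)
  have hle : M.subgroupOf T ≤ P.subgroupOf T := fun x hx => h.le hx
  have hi := H7.isIrr_subgroupOf hMT (H6.isIrrCharacter_hom μ)
  have hinv : ∀ (x : T) (n : M.subgroupOf T),
      (μ ⟨((⟨x * n * x⁻¹, (inferInstance : (M.subgroupOf T).Normal).conj_mem n n.2 x⟩ :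
        M.subgroupOf T) : T), (inferInstance : (M.subgroupOf T).Normal).conj_mem n n.2 x⟩ : ℂ) =
      μ ⟨(n : T), n.2⟩ := fun x n => congrArg Units.val (mem_st_dualA.mp x.2 ⟨(n : T), n.2⟩)
  obtain ⟨χ, h1, h2⟩ := Cfsg.Agent.S4450.result (P.subgroupOf T) (M.subgroupOf T) hle
    (h.cop (Subgroup.relIndex_dvd_index_of_le hPT) le_rfl (by
      rw [← H2.card_subgroupOf_of_le hPT]; exact Subgroup.relIndex_dvd_card _ _))
    (Or.inl inferInstance) ⟨_, hi⟩ hinv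
  have h3 := H7.clifford_le_inertia hle χ.2 hi (fun x _ => H7.mem_inertia'.mpr (hinv x)) h1
  set c := classInner (fun n : M.subgroupOf T => (χ : P.subgroupOf T → ℂ) ⟨n, hle n.2⟩)
    (fun x : M.subgroupOf T => ((μ ⟨(x : T), x.2⟩ : ℂˣ) : ℂ)) with hc
  have hθ := H7.isIrr_of_subgroupOf hPT χ.2
  set θ : P → ℂ := fun x => (χ : P.subgroupOf T → ℂ) ⟨⟨x, hPT x.2⟩, x.2⟩ with hθd
  have h4 : ∀ m : M, θ ⟨m, h.le m.2⟩ = c * μ m := fun m => congrFun h3 ⟨⟨m, hMT m.2⟩, m.2⟩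
  have h5 : θ 1 = c := by
    have := h4 1
    rwa [map_one, Units.val_one, mul_one] at this
  have hc0 : c ≠ 0 := h1
  refine ⟨θ, hθ, ?_, le_antisymm (fun g hg => mem_st_dualA.mpr fun m => ?_) fun g hg =>
    H7.mem_inertia'.mpr fun n => h2 ⟨g, hg⟩ ⟨⟨n, hPT n.2⟩, n.2⟩, fun m => h5 ▸ h4 m⟩
  · obtain ⟨k, hk⟩ := H87.deg_pow_of_isPGroup h.pg hθ
    rcases k with _ | k
    · exfalso
      have h6 := (H87.deg_eq_one_iff_commutator_le hθ).mp hk
      refine hμ (MonoidHom.ext fun m => Units.ext ?_)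
      have h7 : θ ⟨m, h.le m.2⟩ = θ 1 :=
        (H6.mem_charKer (H6.irr_isCharacter hθ)).mp (h6 (h.mem_commutator.mpr m.2))
      rw [h4, h5] at h7
      exact mul_left_cancel₀ hc0 (h7.trans (mul_one c).symm)
    · exact hk ▸ dvd_pow_self p (by omega)
  · have h6 := H7.mem_inertia'.mp hg ⟨m, h.le m.2⟩
    exact Units.ext (mul_left_cancel₀ hc0
      ((h4 (MulAut.conjNormal g m)).symm.trans (h6.trans (h4 m))))

theorem ns_dual [Group.IsSolvable G] {b : ℕ} [hb : Fact b.Prime] (hpb : p ≠ b)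
    (hn : ¬ Rho G (p * b)) (μ : M →* ℂˣ) (hμ : μ ≠ 1) : ∃ S, NS P (st (dual M) μ) b S := by
  obtain ⟨θ, hθ, hd, e, -⟩ := h.above hμ
  exact e ▸ h.ns hθ ((Nat.coprime_primes hp.1 hb.1).mpr hpb) hn (hd.mul_left _)

/-- An element central modulo the kernel of a non-trivial character of `M` is fixed modulo `M`. -/
theorem zle [Group.IsSolvable G] {q : ℕ} [hq : Fact q.Prime] (hpq : p ≠ q)
    (hn : ¬ Rho G (p * q)) {S : Subgroup G} [S.Normal] (hS : ∀ x ∈ S, ∃ k, x ^ q ^ k ∈ P)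
    {μ : M →* ℂˣ} (hμ : μ ≠ 1) {x : G} (hx : x ∈ P)
    (h1 : ∀ y (hy : y ∈ P), μ ⟨⁅y, x⁆, h.cmem hy hx⟩ = 1) {s : G} (hs : s ∈ S) : ⁅s, x⁆ ∈ M := by
  obtain ⟨θ, hθ, hd, -, e⟩ := h.above hμ
  have key : ∀ η : P → ℂ, IsIrrCharacter P η → p ∣ charDegree η → S ≤ H7.inertia η := by
    intro η hη hd
    refine le_of_normal (H7.le_inertia (H6.irr_isClassFunction hη)) hS fun hq' => hn ?_
    refine rho_of_inertia hη ?_
    rw [mul_comm]; exact mul_dvd_mul hq' hd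
  have h0 : θ ⟨x, hx⟩ ≠ 0 := ne_zero_of_commutator hθ fun y => by
    have := e ⟨⁅(y : G), x⁆, h.cmem y.2 hx⟩
    rw [h1 y y.2, Units.val_one, mul_one] at this
    exact this
  have h2 : (⟨_, hP.conj_mem x hx s⟩ * (⟨x, hx⟩ : P)⁻¹ : P) ∈ commutator P :=
    mem_of_forall_hom le_rfl fun ν _ => by
      have a1 := H7.mem_inertia'.mp (key θ hθ hd hs) ⟨x, hx⟩
      have a2 := H7.mem_inertia'.mp (key _ (H6.isIrrCharacter_mul_hom hθ ν)
        (by rwa [H87.deg_mul_hom]) hs) ⟨x, hx⟩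
      simp only [a1] at a2
      rw [map_mul, map_inv, mul_inv_eq_one]
      exact Units.ext (mul_left_cancel₀ h0 a2)
  exact h.mem_commutator.mp h2

end C2

end H64.Palfy
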