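import Mathlib
import Cfsg.Agent.Lib.Palfy.C2a

/-! The case of a normal Sylow subgroup: counting. -/

set_option autoImplicit false
open Cfsg Subgroup
open scoped Pointwise commutatorElement

namespace H64.Palfy

variable {G : Type*} [Group G] [Finite G]

theorem isPGroup_dual {p : ℕ} [Fact p.Prime] (h : IsPGroup p G) : IsPGroup p (G →* ℂˣ) := by
  obtain ⟨k, hk⟩ := h.exists_card_eq
  refine fun μ => ⟨k, MonoidHom.ext fun x => ?_⟩
  rw [MonoidHom.pow_apply, ← map_pow, ← hk, pow_card_eq_one', map_one]; rfl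

theorem count_pow {K W : Type*} [Group K] [Finite K] [Group W] [Finite W] {φ : K →* MulAut W}
    {p r : ℕ} [hp : Fact p.Prime] [Fact r.Prime] (hW : IsPGroup p W) {U : Subgroup W}
    (hU : ∀ h, ∀ x ∈ U, φ h x ∈ U) (h : NQ φ r U) (h0 : U ≠ ⊥) (hn : Nat.card (Sylow r K) ≠ 1)
    (R : Sylow r K) : ∃ a c, Nat.card U = p ^ a ∧ c < a ∧
      p ^ a - 1 = Nat.card (Sylow r K) * (p ^ c - 1) := by
  obtain ⟨a, ha⟩ := (hW.to_subgroup U).exists_card_eq
  obtain ⟨c, hc⟩ := (hW.to_subgroup (U ⊓ H2.fixSub φ R)).exists_card_eq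
  have h1 := count hU h R
  rw [ha, hc] at h1
  refine ⟨a, c, ha, ?_, h1⟩
  have h2 : p ^ c ≤ p ^ a := ha ▸ hc ▸ Subgroup.card_le_of_le inf_le_left
  refine lt_of_le_of_ne ((Nat.pow_le_pow_iff_right hp.1.one_lt).mp h2) fun e => hn ?_
  subst e
  have h3 : 1 < p ^ c := ha ▸ (Subgroup.one_lt_card_iff_ne_bot U).mpr h0
  exact (Nat.eq_of_mul_eq_mul_right (m := p ^ c - 1) (by omega) (by rw [← h1, one_mul])).symm

theorem C2.main [Group.IsSolvable G] {p q r : ℕ} [hp : Fact p.Prime] [hq : Fact q.Prime]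
    [hr : Fact r.Prime] {P M : Subgroup G} [hP : P.Normal] [hM : M.Normal] (h : C2 p P M)
    (hpq : p ≠ q) (hpr : p ≠ r) (hqr : q ≠ r) (h1 : ¬ Rho G (p * q)) (h2 : ¬ Rho G (p * r))
    (h3 : ¬ Rho G (q * r)) (rq : Rho G q) (rr : Rho G r) (hd : ¬ q ∣ (dual M).ker.index) :
    False := by
  haveI := finite_dual (G := M)
  haveI := finite_dual (G := P)
  haveI := nontrivial_dual h.min.ne_bot h.comm
  have hk := ker_dual h.comm
  have hPk : P ≤ (dual M).ker := hk ▸ Subgroup.le_centralizer_iff.mp h.cen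
  have cop : ∀ {b : ℕ} [Fact b.Prime], p ≠ b → ∀ R : Sylow b G, (Nat.card R).Coprime (Nat.card P) :=
    fun hb R => IsPGroup.coprime_card_of_ne _ p hb.symm _ _ R.2 h.pg
  obtain ⟨l0, hl0⟩ := exists_ne (1 : M →* ℂˣ)
  obtain ⟨S, hS⟩ := h.ns_dual hpq h1 l0 hl0
  obtain ⟨hSC, _⟩ := hS.normal (C := (dual M).ker) hq.1 hPk
    (fun g hg => by rw [mem_st, MonoidHom.mem_ker.mp hg]; rfl) hd
  rw [hk] at hSC
  obtain ⟨Q⟩ : Nonempty (Sylow q G) := inferInstance
  have hSQ := hS.le_sup Q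
  have hQS : (Q : Subgroup G) ≤ S := hSQ ▸ le_sup_right
  have nrm : ∀ (X : Subgroup G), X ≤ normalizer (P : Set G) := fun X => by
    rw [normalizer_eq_top]; exact le_top
  let C0 : Subgroup G := P ⊓ H2.relCentralizer S M
  have hC0 : ∀ y, y ∈ C0 ↔ y ∈ P ∧ ∀ s ∈ S, ⁅y, s⁆ ∈ M := fun y => by
    simp only [C0, mem_inf, H2.mem_relCentralizer, normalizer_eq_top, mem_top, true_and]
  haveI : C0.Normal := ⟨fun y hy g => (hC0 _).mpr ⟨hP.conj_mem _ hy.1 g, fun s hs => by
    have := hM.conj_mem _ (((hC0 y).mp hy).2 _ ((inferInstance : S.Normal).conj_mem s hs g⁻¹)) g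
    rw [conjugate_commutatorElement] at this
    simpa [mul_assoc] using this⟩⟩
  have hMC0 : M ≤ C0 := fun m hm => (hC0 m).mpr ⟨h.le hm, fun s _ =>
    (commutator_le_left M ⊤) (commutator_mem_commutator hm trivial)⟩
  obtain ⟨x, hx, hx0⟩ : ∃ x ∈ ⁅P, (Q : Subgroup G)⁆, x ∉ C0 := by
    by_contra hc
    push Not at hc
    refine hS.not_rho Q (H2.inf_eq_bot_of_coprime_card (cop hpq Q))
      (H2.le_centralizer_of_commutator_le (H2.coprime_of_le_right (cop hpq Q) h.le) ?_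
        (hQS.trans hSC)) rq
    rw [← H2.commutator_commutator_eq (nrm _) (cop hpq Q)]
    exact commutator_le.mpr fun a ha b hb => ((hC0 a).mp (hc a ha)).2 b (hQS hb)
  have hxP : x ∈ P := commutator_le_left _ _ hx
  let U : Subgroup (P →* ℂˣ) :=
    { carrier := {μ | ∀ y : P, (y : G) ∈ C0 → μ y = 1}
      one_mem' := fun _ _ => rfl
      mul_mem' := fun {a b} ha hb y hy => by rw [MonoidHom.mul_apply, ha y hy, hb y hy, one_mul]
      inv_mem' := fun {a} ha y hy => by rw [MonoidHom.inv_apply, ha y hy, inv_one] }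
  have hU : ∀ g, ∀ μ ∈ U, dual P g μ ∈ U := fun g μ hμ y hy => by
    rw [dualA_apply]; exact hμ _ ((inferInstance : C0.Normal).conj_mem _ hy _)
  obtain ⟨μ0, hμ0, hμ0x⟩ := H87.exists_hom_trivial_ne_one (C0.subgroupOf P)
    (fun y hy => hMC0 (h.mem_commutator.mp hy)) (g := ⟨x, hxP⟩) hx0
  have hμ0U : μ0 ∈ U := hμ0
  have hμ01 : μ0 ≠ 1 := by rintro rfl; exact hμ0x rfl
  have hfix : ∀ μ ∈ U, S ≤ st (dual P) μ → μ = 1 := fun μ hμ hle => MonoidHom.ext fun y => by
    obtain ⟨n, hn, c, hc, e⟩ := H2.exists_commutator_mul_centralizer (nrm _) (cop hpq Q)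
      (Or.inr inferInstance) y.2
    have e' : y = ⟨n, commutator_le_left _ _ hn⟩ * ⟨c, hc.1⟩ := Subtype.ext e
    have hcC : c ∈ C0 := (hC0 c).mpr ⟨hc.1, fun s hs => by
      obtain ⟨a, ha, u, hu, rfl⟩ := Subgroup.mem_sup_of_normal_left.mp (hSQ ▸ hs)
      have e1 : u * c⁻¹ = c⁻¹ * u := (inv_mem hc.2 : c⁻¹ ∈ centralizer _) u hu
      have : ⁅c, a * u⁆ = ⁅c, a⁆ := by
        calc ⁅c, a * u⁆ = c * a * (u * c⁻¹) * u⁻¹ * a⁻¹ := by rw [commutatorElement_def]; group
          _ = ⁅c, a⁆ := by rw [e1, commutatorElement_def]; group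
      rw [this]; exact h.cmem hc.1 ha⟩
    rw [MonoidHom.one_apply, e', map_mul, map_eq_one_of_commutator (hQS.trans hle) hn, hμ _ hcC,
      one_mul]
  have nsr : ∀ μ : P →* ℂˣ, ¬ S ≤ st (dual P) μ → ∃ S', NS P (st (dual P) μ) r S' := by
    intro μ hμ
    have : q ∣ (st (dual P) μ).index := by
      by_contra hc; exact hμ (le_of_normal (le_st_dual P μ) hS.pw hc)
    rw [st_dual] at this ⊢
    exact h.ns (H6.isIrrCharacter_hom μ) ((Nat.coprime_primes hq.1 hr.1).mpr hqr) h3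
      (this.mul_right _)
  have nsm := h.ns_dual hpr h2
  obtain ⟨S0, hS0⟩ := nsr μ0 fun e => hμ01 (hfix _ hμ0U e)
  have hnn : ¬ S0.Normal := by
    intro hn
    have a1 : ∀ {T}, (∃ S', NS P T r S') → S0 ≤ T := fun ⟨S', h'⟩ =>
      (le_of_normal h'.le hS0.pw h'.nd).trans h'.le'
    have a2 : ∀ μ : P →* ℂˣ, S0 ≤ st (dual P) μ := by
      intro μ
      by_cases hμ : S ≤ st (dual P) μ
      · have : ¬ S ≤ st (dual P) (μ * μ0) := fun e => hμ01 (hfix _ hμ0U fun s hs => by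
          have := e hs
          rwa [mem_st, map_mul, hμ hs, mul_right_inj] at this)
        intro s hs
        have := a1 (nsr _ this) hs
        rwa [mem_st, map_mul, hS0.le' hs, mul_left_inj] at this
      · exact a1 (nsr μ hμ)
    have a3 : S0 ≤ centralizer (M : Set G) := by
      rw [← hk]
      refine fun s hs => MulEquiv.ext fun l => ?_
      by_cases hl : l = 1
      · rw [hl, map_one, map_one]
      · exact a1 (nsm l hl) hs
    obtain ⟨R⟩ : Nonempty (Sylow r G) := inferInstance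
    have hR := sylow_le_of_normal hS0.nd R
    refine hS0.not_rho R (H2.inf_eq_bot_of_coprime_card (cop hpr R))
      (H2.le_centralizer_of_commutator_le (H2.coprime_of_le_right (cop hpr R) h.le) ?_
        (hR.trans a3)) rr
    intro y hy
    exact h.mem_commutator.mp (mem_of_forall_hom (x := ⟨y, commutator_le_left _ _ hy⟩) le_rfl
      fun μ _ => map_eq_one_of_commutator (hR.trans (a2 μ)) hy)
  have hπ := QuotientGroup.mk'_surjective P
  have hπk : P ≤ (QuotientGroup.mk' P).ker := by rw [QuotientGroup.ker_mk']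
  let φP := QuotientGroup.lift P (dual P) fun g hg => MulEquiv.ext fun μ => le_st_dual P μ hg
  let φM := QuotientGroup.lift P (dual M) hPk
  have eP : ∀ g, φP (QuotientGroup.mk' P g) = dual P g := fun g => rfl
  have eM : ∀ g, φM (QuotientGroup.mk' P g) = dual M g := fun g => rfl
  obtain ⟨R, hR, -⟩ := hS0.transfer hπ eP hπk
  have hn1 : Nat.card (Sylow r (G ⧸ P)) ≠ 1 := by
    intro e
    haveI := (Nat.card_eq_one_iff_unique.mp e).1
    have := (Sylow.normal_of_subsingleton R).comap (QuotientGroup.mk' P)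
    rw [hR, comap_map_eq_self (by rw [QuotientGroup.ker_mk']; exact hS0.le)] at this
    exact hnn this
  obtain ⟨a, c, ha, hca, e1⟩ := count_pow (φ := φP) (isPGroup_dual h.pg) (U := U) (fun g => by
      obtain ⟨g, rfl⟩ := hπ g
      exact hU g) (fun μ hμ hμ1 => by
      obtain ⟨S', h'⟩ := nsr μ fun e => hμ1 (hfix _ hμ e)
      obtain ⟨R', -, h''⟩ := h'.transfer hπ eP hπk
      exact ⟨R', h''⟩) (fun e => hμ01 (Subgroup.mem_bot.mp (e ▸ hμ0U))) hn1 R
  obtain ⟨b, d, hb, hdb, e2⟩ := count_pow (φ := φM) (isPGroup_dual (h.pg.to_le h.le)) (U := ⊤)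
    (fun _ _ _ => trivial) (fun μ _ hμ1 => by
      obtain ⟨S', h'⟩ := nsm μ hμ1
      obtain ⟨R', -, h''⟩ := h'.transfer hπ eM hπk
      exact ⟨R', h''⟩) top_ne_bot hn1 R
  have e3 := num hp.1 e1 e2 hca hdb
  rw [← ha, ← hb, Subgroup.card_top] at e3
  have hxc : x ∈ centralizer (C0 : Set G) := by
    have : ⁅⁅P, (Q : Subgroup G)⁆, C0⁆ = ⊥ := by
      apply commutator_commutator_eq_bot_of_rotate
      · rw [commutator_eq_bot_iff_le_centralizer, commutator_comm]
        exact le_trans (commutator_le.mpr fun a ha b hb => ((hC0 a).mp ha).2 b (hQS hb)) h.cen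
      · rw [commutator_eq_bot_iff_le_centralizer]
        exact le_trans (commutator_le.mpr fun a ha b hb => h.cmem ha.1 hb)
          (Subgroup.le_centralizer_iff.mp (hQS.trans hSC))
    exact commutator_eq_bot_iff_le_centralizer.mp this hx
  let δ : P →* M := MonoidHom.mk' (fun y => ⟨⁅(y : G), x⁆, h.cmem y.2 hxP⟩) fun y z => by
    refine Subtype.ext ?_
    show ⁅(y : G) * z, x⁆ = ⁅(y : G), x⁆ * ⁅(z : G), x⁆
    rw [H5.commutator_mul_left_of_commute (h.cen (h.cmem z.2 hxP) y y.2)]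
    exact h.comm _ (h.cmem z.2 hxP) _ (h.cmem y.2 hxP)
  let f : (M →* ℂˣ) → U := fun l => ⟨l.comp δ, fun y hy => by
    have : δ y = 1 := Subtype.ext (commutatorElement_eq_one_iff_mul_comm.mpr (hxc _ hy))
    rw [MonoidHom.comp_apply, this, map_one]⟩
  have hf : Function.Injective f := by
    intro l l' e
    by_contra hne
    refine hx0 ((hC0 x).mpr ⟨hxP, fun s hs => ?_⟩)
    rw [← commutatorElement_inv]
    refine inv_mem (h.zle hpq h1 hS.pw (μ := l * l'⁻¹) (fun e => hne (mul_inv_eq_one.mp e)) hxP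
      (fun y hy => ?_) hs)
    have : l (δ ⟨y, hy⟩) = l' (δ ⟨y, hy⟩) := DFunLike.congr_fun (congrArg Subtype.val e) ⟨y, hy⟩
    exact mul_inv_eq_one.mpr this
  obtain ⟨l, hl⟩ := (hf.bijective_of_nat_card_le e3.le).2 ⟨μ0, hμ0U⟩
  apply hμ0x
  have : δ ⟨x, hxP⟩ = 1 := Subtype.ext (commutatorElement_self x)
  rw [← show l.comp δ = μ0 from congrArg Subtype.val hl, MonoidHom.comp_apply, this, map_one]

end H64.Palfy
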